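import Cfsg.Agent.Lib.U43Type.Rels

/-!
The quadratic form on the group of order 81 and its group of similitudes, decidably.
-/

set_option autoImplicit false
set_option maxRecDepth 10000
set_option synthInstance.maxSize 20000
set_option synthInstance.maxHeartbeats 400000

namespace CfsgLib.SuzEleven

open CfsgLib.U43Type.Frame.EBase (φu φs φT)

/-- Coordinates. -/
abbrev V : Type := Fin 3 × Fin 3 × Fin 3 × Fin 3

/-- The form. -/
def Qf (e : V) : Fin 3 := e.1 * e.2.1 + 2 * e.2.2.1 * e.2.2.1 + 2 * e.2.2.2 * e.2.2.2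

/-- The product of the first two coordinates. -/
def cls (e : V) : Fin 3 := e.1 * e.2.1

/-- A letter. -/
def let3 : Fin 3 → V → V := ![φu, φs, φT]

/-- A word applied to a vector. -/
def ap (w : List (Fin 3)) (e : V) : V := w.foldr let3 e

theorem ap_nil (e : V) : ap [] e = e := rfl

theorem ap_cons (a : Fin 3) (w : List (Fin 3)) (e : V) : ap (a :: w) e = let3 a (ap w e) := rfl

/-- The first axis. -/
def ea : V := (1, 0, 0, 0)

/-- The second axis. -/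
def eb : V := (0, 1, 0, 0)

/-- A third singular vector. -/
def e0 : V := (1, 1, 1, 0)

/-- Equality up to sign. -/
def Pm (e d : V) : Prop := e = d ∨ e = -d

instance (e d : V) : Decidable (Pm e d) := by unfold Pm; infer_instance

theorem ap_Qf : ∀ (a : Fin 3) (e : V), Qf (let3 a e) = Qf e := by decide +kernel

theorem to_plane : ∀ e : V, ∃ w ∈ ([[], [0, 2, 1, 0], [0, 1, 2, 0, 0], [0, 2, 1, 0, 2], [0, 1, 2, 0, 0, 2], [0],
    [0, 0], [0, 2], [0, 0, 2], [0, 2, 0, 1], [0, 2, 0, 1, 0], [0, 0, 2, 0, 1], [0, 0, 2, 0, 1, 0], [0, 1, 0],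
    [0, 1, 0, 2], [0, 2, 0, 0, 1], [0, 2, 0, 1, 0, 0]] : List (List (Fin 3))),
    (ap w e).2.2 = (0, 0) := by decide +kernel

theorem to_ea : ∀ e : V, e ≠ 0 → Qf e = 0 → ∃ w ∈ ([[], [1], [1, 0], [1, 0, 0], [1, 0, 2], [1, 0, 2, 0], [1, 0, 2, 1],
    [1, 0, 2, 0, 0], [1, 0, 2, 1, 0], [1, 0, 2, 1, 0, 0]] : List (List (Fin 3))), Pm (ap w e) ea := by
  decide +kernel

theorem to_eb : ∀ e : V, e ≠ 0 → Qf e = 0 → ¬ Pm e ea → ∃ w ∈ ([[], [0], [0, 0], [0, 2], [0, 2, 0], [0, 0, 2],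
    [0, 2, 0, 0], [0, 0, 2, 0], [0, 0, 2, 0, 0]] : List (List (Fin 3))),
    Pm (ap w ea) ea ∧ Pm (ap w e) eb := by
  decide +kernel

theorem cls_ne : ∀ e : V, e ≠ 0 → Qf e = 0 → ¬ Pm e ea → ¬ Pm e eb → cls e ≠ 0 := by decide +kernel

theorem to_e0 : ∀ e : V, e ≠ 0 → Qf e = 0 → cls e = 1 → ∃ m : Fin 4, Pm (φT^[m.val] e) e0 := by decide +kernel

theorem T_facts : (∀ m : Fin 4, Pm (φT^[m.val] ea) ea ∧ Pm (φT^[m.val] eb) eb) ∧
    (∀ (m : Fin 4) e, cls (φT^[m.val] e) = cls e) ∧ (∀ m : Fin 4, Pm (φT^[m.val] e0) e0 → m = 0) := by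
  decide +kernel

theorem e0_facts : e0 ≠ 0 ∧ Qf e0 = 0 ∧ cls e0 = 1 ∧ ¬ Pm e0 ea ∧ ¬ Pm e0 eb := by decide

theorem axis_facts : ea ≠ 0 ∧ eb ≠ 0 ∧ Qf ea = 0 ∧ Qf eb = 0 ∧ ¬ Pm eb ea := by decide

theorem pm_facts : (∀ e d : V, Pm e d → Pm d e) ∧ (∀ e d : V, Pm e d → cls e = cls d) ∧
    (∀ e d : V, Pm e d → Qf e = Qf d) := by decide +kernel

theorem flip_cls : ∀ i j k l k' l' : Fin 3, Qf (i, j, k, l) = 0 → ∀ ε : Bool,
    cls (if ε then (-i, j, k', l') else (i, -j, k', l')) = -cls (i, j, k, l) := by decide +kernel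

theorem inv_split : ∀ e : V, φT (φT e) = -e → e.1 = 0 ∧ e.2.1 = 0 := by decide +kernel

theorem TT_apply : ∀ e : V, φT (φT e) = (e.1, e.2.1, -e.2.2.1, -e.2.2.2) := by decide +kernel

/-- Normalised singular vectors. -/
def Norm (e : V) : Prop :=
  e.1 = 1 ∨ (e.1 = 0 ∧ (e.2.1 = 1 ∨ (e.2.1 = 0 ∧ (e.2.2.1 = 1 ∨ (e.2.2.1 = 0 ∧ e.2.2.2 = 1)))))

instance (e : V) : Decidable (Norm e) := by unfold Norm; infer_instance

/-- The ten singular points. -/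
abbrev SP : Type := {e : V // Qf e = 0 ∧ Norm e}

theorem card_SP : Fintype.card SP = 10 := by decide +kernel

theorem norm_facts : (∀ e : V, Norm e → e ≠ 0) ∧ (∀ e d : V, Norm e → Norm d → Pm e d → e = d) ∧
    (∀ e : V, e ≠ 0 → Norm e ∨ Norm (-e)) ∧ (∀ e : V, Qf (-e) = Qf e) := by decide +kernel

end CfsgLib.SuzEleven
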