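import Cfsg.Agent.Lib.SuzEleven.Axes
import Cfsg.Agent.Lib.SuzEleven.Model

/-!
The elementary abelian group of order 243 over the group of order 81 of the quotient.
-/

set_option autoImplicit false
set_option linter.style.haveILetI false
set_option maxRecDepth 10000
set_option synthInstance.maxSize 20000
set_option synthInstance.maxHeartbeats 400000
set_option maxHeartbeats 400000

namespace CfsgLib.SuzThree

open CfsgLib.SuzType CfsgLib.Classical.Quad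
open CfsgLib.U43Type (SL23 Pr Qs Equ)
open CfsgLib.SuzEleven

theorem sl_cube_comm : ∀ a : SL23, a ^ 3 = 1 → ∀ b : SL23, b ^ 3 = 1 → a * b ≠ b * a * SL23.neg := by
  decide +kernel

theorem side_not_comm : ¬ Equ ((1, SL23.yy) * (1, SL23.xx)) ((1, SL23.xx) * (1, SL23.yy)) ∧
    ((1, SL23.yy) : Pr) * (SL23.xx, 1) = (SL23.xx, 1) * (1, SL23.yy) ∧
    (((1, SL23.yy) : Pr) ^ 3 = 1 ∧ ((1, SL23.xx) : Pr) ^ 3 = 1 ∧ ((SL23.xx, 1) : Pr) ^ 3 = 1) := by
  decide +kernel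

universe u

variable {G : Type u} [Group G]

namespace Frame

variable {S : Sys G} {z : G}

/-- Coordinates on the quotient together with the two axes. -/
structure Setting (F : Frame S z) where
  /-- The factors. -/
  P : F.Factors
  /-- The frame of the quotient. -/
  U : CfsgLib.U43Type.Frame (↥(Subgroup.centralizer ({F.y} : Set G)) ⧸ F.N0)
  /-- The base of the group of order 81. -/
  B : U.EBase
  hz : U.D.z = F.qq ⟨z, F.z_mem_C⟩

theorem exists_setting [Finite G] (F : Frame S z) : Nonempty F.Setting := by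
  obtain ⟨P⟩ := F.exists_factors
  obtain ⟨D, hD, -⟩ := P.hyp F.qq F.qq_surj F.qq_ker
  obtain ⟨U, hU⟩ := D.exists_frame
  obtain ⟨B⟩ := U.exists_eBase
  exact ⟨⟨P, U, B, hU.trans hD⟩⟩

namespace Setting

variable {F : Frame S z} (W : F.Setting)

theorem z_comm : Commute z F.y := F.hy.1.symm

theorem commute_z [Finite G] {x : ↥(Subgroup.centralizer ({F.y} : Set G))} (h : Commute (F.qq x) W.U.D.z) :
    (x : G) ∈ F.W := by
  refine F.mem_W.2 ⟨?_, Subgroup.mem_centralizer_singleton_iff.1 x.2⟩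
  exact commute_of_q F.qq F.qq_ker (x' := ⟨z, F.z_mem_C⟩) (m := 1)
    (by rw [pow_one, pow_two]; exact F.M.sq_one) (by rw [← W.hz]; exact h)

/-- A lift of an element of order three commuting with the involution. -/
theorem small [Finite G] {x : ↥(Subgroup.centralizer ({F.y} : Set G))} (h : Commute (F.qq x) W.U.D.z)
    (h3 : F.qq x ^ 3 = 1) :
    (x : G) ∈ F.W ∧ (x : G) ^ 3 = 1 ∧ ∃ (n : Fin 3) (a b : SL23), a ^ 3 = 1 ∧ b ^ 3 = 1 ∧
      (x : G) = F.y ^ (n : ℕ) * (W.P.f0 (a, b) : G) ∧ F.qq x = F.qq (W.P.f0 (a, b)) := by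
  obtain ⟨D, hD, hDf⟩ := W.P.hyp F.qq F.qq_surj F.qq_ker
  have hW := W.commute_z h
  have hodd : Odd (orderOf (F.qq x)) :=
    Odd.of_dvd_nat (by norm_num : Odd 3) (orderOf_dvd_of_pow_eq_one h3)
  obtain ⟨p, hp⟩ := D.odd_mem _ (by rw [hD, ← W.hz]; exact h) hodd
  have hp' : F.qq x = F.qq (W.P.f0 p) := by rw [← hp, hDf]; rfl
  obtain ⟨t, ht, hxt⟩ := coe_eq_of_q F.qq F.qq_ker hp'
  have ht3 : t ^ 3 = 1 := by
    obtain ⟨m, rfl⟩ := Subgroup.mem_zpowers_iff.1 ht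
    rw [← zpow_natCast, ← zpow_mul, mul_comm, zpow_mul, zpow_natCast, F.cube, one_zpow]
  have htc : Commute (W.P.f0 p : G) t := by
    obtain ⟨m, rfl⟩ := Subgroup.mem_zpowers_iff.1 ht
    exact (W.P.f0_comm_y p).zpow_right m
  have hk : (W.P.f0 (p ^ 3) : G) = 1 := by
    rcases (D.ker (p ^ 3)).1 (by rw [map_pow, hp, h3]) with e | e <;> rw [e]
    · rw [map_one, Subgroup.coe_one]
    · rw [W.P.f0_apply, W.P.B2.neg, W.P.B3.neg, F.M.sq_one]
  have hx3 : (x : G) ^ 3 = 1 := by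
    rw [hxt, htc.mul_pow, ht3, mul_one, ← SubmonoidClass.coe_pow, ← map_pow, hk]
  obtain ⟨n, a, b, ha, hb, e⟩ := W.P.form hW hx3
  refine ⟨hW, hx3, n, a, b, ha, hb, e, ?_⟩
  have hy : F.y ^ (n : ℕ) ∈ Subgroup.centralizer ({F.y} : Set G) :=
    Subgroup.mem_centralizer_singleton_iff.2 ((Commute.refl F.y).pow_left _).eq
  rw [show x = ⟨_, hy⟩ * W.P.f0 (a, b) from Subtype.ext e, map_mul,
    (F.qq_ker ⟨_, hy⟩).2 (Subgroup.pow_mem _ (Subgroup.mem_zpowers _) _), one_mul]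

/-- Lifts of commuting elements of order three commuting with the involution commute. -/
theorem small_comm [Finite G] {x x' : ↥(Subgroup.centralizer ({F.y} : Set G))}
    (h : Commute (F.qq x) W.U.D.z) (h3 : F.qq x ^ 3 = 1) (h' : Commute (F.qq x') W.U.D.z)
    (h3' : F.qq x' ^ 3 = 1) (hc : Commute (F.qq x) (F.qq x')) : Commute (x : G) (x' : G) := by
  obtain ⟨-, -, n, a, b, ha, hb, e, eq⟩ := W.small h h3
  obtain ⟨-, -, n', a', b', ha', hb', e', eq'⟩ := W.small h' h3'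
  obtain ⟨D, -, hDf⟩ := W.P.hyp F.qq F.qq_surj F.qq_ker
  have hf : D.f ((a, b) * (a', b')) = D.f ((a', b') * (a, b)) := by
    rw [map_mul, map_mul, hDf]
    show F.qq (W.P.f0 (a, b)) * F.qq (W.P.f0 (a', b')) = F.qq (W.P.f0 (a', b')) * F.qq (W.P.f0 (a, b))
    rw [← eq, ← eq', hc.eq]
  have hcomm : Commute (W.P.f0 (a, b) : G) (W.P.f0 (a', b') : G) := by
    show _ * _ = _ * _
    rw [← W.P.f0_coe_mul, ← W.P.f0_coe_mul]
    rcases D.eq_iff.1 hf with e2 | e2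
    · rw [e2]
    · exact absurd (congrArg Prod.fst e2) (sl_cube_comm a ha a' ha')
  rw [e, e']
  have hy : ∀ (m : ℕ) (p : Pr), Commute (F.y ^ m) (W.P.f0 p : G) := fun m p => (W.P.f0_comm_y p).symm.pow_left m
  exact (((Commute.refl F.y).pow_pow _ _).mul_right (hy _ _)).mul_left ((hy _ _).symm.mul_right hcomm)

theorem XX_small [Finite G] {x : ↥(Subgroup.centralizer ({F.y} : Set G))} (h : F.qq x ∈ W.U.XX) :
    Commute (F.qq x) W.U.D.z ∧ F.qq x ^ 3 = 1 :=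
  ⟨W.U.XX_z h, W.U.XX_cube h⟩

/-- A lift. -/
noncomputable def lift (h : ↥(Subgroup.centralizer ({F.y} : Set G)) ⧸ F.N0) :
    ↥(Subgroup.centralizer ({F.y} : Set G)) :=
  Classical.choose (F.qq_surj h)

theorem qq_lift (h : ↥(Subgroup.centralizer ({F.y} : Set G)) ⧸ F.N0) : F.qq (lift h) = h :=
  Classical.choose_spec (F.qq_surj h)

theorem comm_y (x : ↥(Subgroup.centralizer ({F.y} : Set G))) : Commute (x : G) F.y :=
  Subgroup.mem_centralizer_singleton_iff.1 x.2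

theorem eq_one_of_inv {t : G} (ht : t ∈ Subgroup.zpowers F.y) (h : t = t⁻¹) : t = 1 := by
  refine F.y_pow_two ht (m := 1) ?_
  rw [pow_one, pow_two]
  nth_rw 2 [h]
  exact mul_inv_cancel t

theorem comm_zpow {t : G} (ht : t ∈ Subgroup.zpowers F.y) (x : ↥(Subgroup.centralizer ({F.y} : Set G))) :
    Commute (x : G) t := by
  obtain ⟨m, rfl⟩ := Subgroup.mem_zpowers_iff.1 ht
  exact (comm_y x).zpow_right m

/-- Two lifts of commuting elements, one inverted and one centralized by the same element, commute. -/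
theorem comm_kill {σ x x' : ↥(Subgroup.centralizer ({F.y} : Set G))} (hc : Commute (F.qq x) (F.qq x'))
    (h1 : F.qq σ * F.qq x * (F.qq σ)⁻¹ = (F.qq x)⁻¹) (h2 : F.qq σ * F.qq x' * (F.qq σ)⁻¹ = F.qq x') :
    Commute (x : G) (x' : G) := by
  obtain ⟨t, htdef⟩ : ∃ t : G, t = x * x' * (x : G)⁻¹ * (x' : G)⁻¹ := ⟨_, rfl⟩
  have ht : t ∈ Subgroup.zpowers F.y := by
    rw [htdef]
    refine (F.qq_ker (x * x' * x⁻¹ * x'⁻¹)).1 ?_
    rw [map_mul, map_mul, map_mul, map_inv, map_inv, hc.eq, mul_inv_cancel_right, mul_inv_cancel]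
  obtain ⟨s, hs, e⟩ := coe_eq_of_q F.qq F.qq_ker (x := σ * x * σ⁻¹) (x' := x⁻¹)
    (by rw [map_mul, map_mul, map_inv, map_inv, h1])
  obtain ⟨s', hs', e'⟩ := coe_eq_of_q F.qq F.qq_ker (x := σ * x' * σ⁻¹) (x' := x')
    (by rw [map_mul, map_mul, map_inv, h2])
  rw [Subgroup.coe_mul, Subgroup.coe_mul, Subgroup.coe_inv, Subgroup.coe_inv] at e
  rw [Subgroup.coe_mul, Subgroup.coe_mul, Subgroup.coe_inv] at e'
  have hσt : (σ : G) * t * (σ : G)⁻¹ = t := conj_eq_iff_commute.2 (comm_zpow ht σ)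
  have e2 : (σ : G) * t * (σ : G)⁻¹ = ((x : G)⁻¹ * s) * ((x' : G) * s') * ((x : G)⁻¹ * s)⁻¹ * ((x' : G) * s')⁻¹ := by
    rw [← e, ← e', htdef]; group
  have hs1 : ∀ g : ↥(Subgroup.centralizer ({F.y} : Set G)), Commute (g : G) s := fun g => comm_zpow hs g
  have hs2 : ∀ g : ↥(Subgroup.centralizer ({F.y} : Set G)), Commute (g : G) s' := fun g => comm_zpow hs' g
  have e3 : (σ : G) * t * (σ : G)⁻¹ = (x : G)⁻¹ * (x' : G) * (x : G) * (x' : G)⁻¹ := by
    rw [e2]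
    calc (x : G)⁻¹ * s * ((x' : G) * s') * ((x : G)⁻¹ * s)⁻¹ * ((x' : G) * s')⁻¹
        = (x : G)⁻¹ * (s * x') * (s' * s⁻¹) * x * s'⁻¹ * (x' : G)⁻¹ := by group
      _ = (x : G)⁻¹ * ((x' : G) * s) * (s' * s⁻¹) * x * s'⁻¹ * (x' : G)⁻¹ := by rw [(hs1 x').eq]
      _ = (x : G)⁻¹ * (x' : G) * ((s * s') * s⁻¹) * x * s'⁻¹ * (x' : G)⁻¹ := by group
      _ = (x : G)⁻¹ * (x' : G) * (s' * x) * s'⁻¹ * (x' : G)⁻¹ := by
        have hss : Commute s s' := by
          obtain ⟨m, rfl⟩ := Subgroup.mem_zpowers_iff.1 hs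
          obtain ⟨m', rfl⟩ := Subgroup.mem_zpowers_iff.1 hs'
          exact (Commute.refl F.y).zpow_zpow m m'
        rw [hss.eq]; group
      _ = (x : G)⁻¹ * (x' : G) * ((x : G) * s') * s'⁻¹ * (x' : G)⁻¹ := by rw [(hs2 x).eq]
      _ = _ := by group
  have hti : t⁻¹ = (σ : G) * t * (σ : G)⁻¹ := by
    rw [e3]
    calc t⁻¹ = (x : G)⁻¹ * t⁻¹ * (x : G) := by
          rw [mul_assoc, ← (comm_zpow ((Subgroup.zpowers F.y).inv_mem ht) x).eq, inv_mul_cancel_left]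
      _ = _ := by rw [htdef]; group
  have h := eq_one_of_inv ht (hσt.symm.trans hti.symm)
  rw [htdef, mul_inv_eq_one] at h
  exact conj_eq_iff_commute.1 h

/-- A lift of an element of order three inverted by an element has trivial cube. -/
theorem cube_kill {σ x : ↥(Subgroup.centralizer ({F.y} : Set G))} (h3 : F.qq x ^ 3 = 1)
    (h1 : F.qq σ * F.qq x * (F.qq σ)⁻¹ = (F.qq x)⁻¹) : (x : G) ^ 3 = 1 := by
  have ht : (x : G) ^ 3 ∈ Subgroup.zpowers F.y := by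
    have := (F.qq_ker (x ^ 3)).1 (by rw [map_pow, h3])
    rwa [SubmonoidClass.coe_pow] at this
  obtain ⟨s, hs, e⟩ := coe_eq_of_q F.qq F.qq_ker (x := σ * x * σ⁻¹) (x' := x⁻¹)
    (by rw [map_mul, map_mul, map_inv, map_inv, h1])
  rw [Subgroup.coe_mul, Subgroup.coe_mul, Subgroup.coe_inv, Subgroup.coe_inv] at e
  have hs3 : s ^ 3 = 1 := by
    obtain ⟨m, rfl⟩ := Subgroup.mem_zpowers_iff.1 hs
    rw [← zpow_natCast, ← zpow_mul, mul_comm, zpow_mul, zpow_natCast, F.cube, one_zpow]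
  have h : (σ : G) * (x : G) ^ 3 * (σ : G)⁻¹ = ((x : G) ^ 3)⁻¹ := by
    rw [← conj_pow, e, (comm_zpow hs x).inv_left.mul_pow, hs3, mul_one, inv_pow]
  exact eq_one_of_inv ht ((conj_eq_iff_commute.2 (comm_zpow ht σ)).symm.trans h)

variable [Finite G]

/-- The group of order 81. -/
noncomputable def EE : Subgroup (↥(Subgroup.centralizer ({F.y} : Set G)) ⧸ F.N0) :=
  Classical.choose W.U.exists_E

theorem mem_EE {e : ↥(Subgroup.centralizer ({F.y} : Set G)) ⧸ F.N0} : e ∈ W.EE ↔ W.U.IsE e :=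
  (Classical.choose_spec W.U.exists_E).1 e

/-- The group of order 243. -/
noncomputable def A : Subgroup G := (W.EE.comap F.qq).map (Subgroup.centralizer ({F.y} : Set G)).subtype

theorem mem_A {x : G} :
    x ∈ W.A ↔ ∃ hx : x ∈ Subgroup.centralizer ({F.y} : Set G), W.U.IsE (F.qq ⟨x, hx⟩) := by
  constructor
  · rintro ⟨c, hc, rfl⟩
    exact ⟨c.2, W.mem_EE.1 (show F.qq c ∈ W.EE from hc)⟩
  · rintro ⟨hx, he⟩
    exact ⟨⟨x, hx⟩, W.mem_EE.2 he, rfl⟩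

theorem coe_mem_A {x : ↥(Subgroup.centralizer ({F.y} : Set G))} : (x : G) ∈ W.A ↔ W.U.IsE (F.qq x) :=
  ⟨fun h => (W.mem_A.1 h).elim fun _ e => e, fun h => W.mem_A.2 ⟨x.2, h⟩⟩

theorem y_mem_A : F.y ∈ W.A := by
  refine W.mem_A.2 ⟨Subgroup.mem_centralizer_singleton_iff.2 rfl, ?_⟩
  rw [(F.qq_ker ⟨F.y, _⟩).2 (Subgroup.mem_zpowers _), ← map_one W.U.D.f]
  exact W.U.isE_XX ⟨1, one_mem _, rfl⟩

/-- The lifts of the four generators. -/
noncomputable def gen : Fin 4 → ↥(Subgroup.centralizer ({F.y} : Set G)) :=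
  ![lift W.U.xa, lift W.U.xb, lift W.B.v, lift W.B.w]

theorem qq_gen : F.qq (W.gen 0) = W.U.xa ∧ F.qq (W.gen 1) = W.U.xb ∧ F.qq (W.gen 2) = W.B.v ∧
    F.qq (W.gen 3) = W.B.w := ⟨qq_lift _, qq_lift _, qq_lift _, qq_lift _⟩

theorem gen_cube (i : Fin 4) : (W.gen i : G) ^ 3 = 1 := by
  obtain ⟨ea, eb, ev, ew⟩ := W.qq_gen
  have hinv : ∀ {e}, W.U.IsI e → W.U.D.z * e * W.U.D.z⁻¹ = e⁻¹ := fun he => by
    rw [W.U.z_inv]; exact he.2
  have hσ : ∀ {x : ↥(Subgroup.centralizer ({F.y} : Set G))}, W.U.IsI (F.qq x) → F.qq x ^ 3 = 1 →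
      (x : G) ^ 3 = 1 := fun hI h3 => cube_kill (σ := ⟨z, F.z_mem_C⟩) h3 (by rw [← W.hz]; exact hinv hI)
  fin_cases i
  · exact (W.small (W.XX_small (ea ▸ W.U.xa_mem)).1 (W.XX_small (ea ▸ W.U.xa_mem)).2).2.1
  · exact (W.small (W.XX_small (eb ▸ W.U.xb_mem)).1 (W.XX_small (eb ▸ W.U.xb_mem)).2).2.1
  · exact hσ (ev ▸ W.B.v_isI) (ev ▸ W.B.v_cube)
  · exact hσ (ew ▸ W.B.w_isI) (ew ▸ W.B.w_cube)

theorem gen_comm (i j : Fin 4) : Commute (W.gen i : G) (W.gen j : G) := by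
  obtain ⟨ea, eb, ev, ew⟩ := W.qq_gen
  have hX : ∀ {x}, x ∈ W.U.XX → W.U.D.z * x * W.U.D.z⁻¹ = x := fun hx =>
    conj_eq_iff_commute.2 (W.U.XX_z hx).symm
  have hI : ∀ {e}, W.U.IsI e → W.U.D.z * e * W.U.D.z⁻¹ = e⁻¹ := fun he => by
    rw [W.U.z_inv]; exact he.2
  have hz' : ∀ {x x' : ↥(Subgroup.centralizer ({F.y} : Set G))}, W.U.IsI (F.qq x) → F.qq x' ∈ W.U.XX →
      Commute (x : G) (x' : G) := fun {x x'} h h' =>
    comm_kill (σ := ⟨z, F.z_mem_C⟩) (W.B.isE_comm h.1 (W.U.isE_XX h')) (by rw [← W.hz]; exact hI h)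
      (by rw [← W.hz]; exact hX h')
  have hab : Commute (W.gen 0 : G) (W.gen 1 : G) := by
    refine W.small_comm (W.XX_small (ea ▸ W.U.xa_mem)).1 (W.XX_small (ea ▸ W.U.xa_mem)).2
      (W.XX_small (eb ▸ W.U.xb_mem)).1 (W.XX_small (eb ▸ W.U.xb_mem)).2 ?_
    rw [ea, eb]
    exact W.U.XX_comm W.U.xa_mem W.U.xb_mem
  have hvw : Commute (W.gen 3 : G) (W.gen 2 : G) := by
    refine comm_kill (σ := lift W.U.s) ?_ ?_ ?_
    · rw [ev, ew]; exact W.B.comm.symm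
    · rw [qq_lift, ew, W.U.s_inv]; exact W.B.w_s
    · rw [qq_lift, ev, W.U.s_inv]; exact W.B.v_s'
  have h20 := hz' (x := W.gen 2) (x' := W.gen 0) (ev ▸ W.B.v_isI) (ea ▸ W.U.xa_mem)
  have h21 := hz' (x := W.gen 2) (x' := W.gen 1) (ev ▸ W.B.v_isI) (eb ▸ W.U.xb_mem)
  have h30 := hz' (x := W.gen 3) (x' := W.gen 0) (ew ▸ W.B.w_isI) (ea ▸ W.U.xa_mem)
  have h31 := hz' (x := W.gen 3) (x' := W.gen 1) (ew ▸ W.B.w_isI) (eb ▸ W.U.xb_mem)
  fin_cases i <;> fin_cases j <;>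
    first
      | exact Commute.refl _
      | exact hab | exact hab.symm | exact hvw | exact hvw.symm
      | exact h20 | exact h20.symm | exact h21 | exact h21.symm
      | exact h30 | exact h30.symm | exact h31 | exact h31.symm

/-- The coordinates of an element of the group. -/
theorem coord {x : G} (hx : x ∈ W.A) : ∃ (hxC : x ∈ Subgroup.centralizer ({F.y} : Set G)) (e : V),
    F.qq ⟨x, hxC⟩ = W.B.elv e := by
  obtain ⟨hxC, he⟩ := W.mem_A.1 hx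
  obtain ⟨i, j, k, l, h⟩ := W.B.all_E he
  exact ⟨hxC, (i, j, k, l), h⟩

/-- Every element is a product of powers of the lifts and of `y`. -/
theorem decomp_A {x : G} (hx : x ∈ W.A) : ∃ (m : Fin 4 → ℕ) (t : G), t ∈ Subgroup.zpowers F.y ∧
    x = (W.gen 0 : G) ^ m 0 * (W.gen 1 : G) ^ m 1 * ((W.gen 2 : G) ^ m 2 * (W.gen 3 : G) ^ m 3) * t := by
  obtain ⟨hxC, ⟨i, j, k, l⟩, h⟩ := W.coord hx
  obtain ⟨ea, eb, ev, ew⟩ := W.qq_gen
  obtain ⟨t, ht, e⟩ := coe_eq_of_q F.qq F.qq_ker (x := ⟨x, hxC⟩)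
    (x' := W.gen 0 ^ (i : ℕ) * W.gen 1 ^ (j : ℕ) * (W.gen 2 ^ (k : ℕ) * W.gen 3 ^ (l : ℕ))) (by
      rw [h, map_mul, map_mul, map_mul, map_pow, map_pow, map_pow, map_pow, ea, eb, ev, ew]
      exact W.B.el_form i j k l)
  exact ⟨![(i : ℕ), j, k, l], t, ht, by simpa using e⟩

theorem A_comm {x x' : G} (hx : x ∈ W.A) (hx' : x' ∈ W.A) : Commute x x' := by
  obtain ⟨m, t, ht, rfl⟩ := W.decomp_A hx
  obtain ⟨m', t', ht', rfl⟩ := W.decomp_A hx'
  have htt : Commute t t' := by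
    obtain ⟨a, rfl⟩ := Subgroup.mem_zpowers_iff.1 ht
    obtain ⟨b, rfl⟩ := Subgroup.mem_zpowers_iff.1 ht'
    exact (Commute.refl F.y).zpow_zpow a b
  have hg : ∀ (i : Fin 4) (n : ℕ), Commute ((W.gen i : G) ^ n)
      ((W.gen 0 : G) ^ m' 0 * (W.gen 1 : G) ^ m' 1 * ((W.gen 2 : G) ^ m' 2 * (W.gen 3 : G) ^ m' 3) * t') := fun i n =>
    ((((W.gen_comm i 0).pow_pow n _).mul_right ((W.gen_comm i 1).pow_pow n _)).mul_right
      (((W.gen_comm i 2).pow_pow n _).mul_right ((W.gen_comm i 3).pow_pow n _))).mul_right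
      ((comm_zpow ht' (W.gen i)).pow_left n)
  refine (((hg 0 _).mul_left (hg 1 _)).mul_left ((hg 2 _).mul_left (hg 3 _))).mul_left ?_
  have htg : ∀ (i : Fin 4) (n : ℕ), Commute t ((W.gen i : G) ^ n) := fun i n => ((comm_zpow ht (W.gen i)).symm).pow_right n
  exact (((htg 0 _).mul_right (htg 1 _)).mul_right ((htg 2 _).mul_right (htg 3 _))).mul_right htt

theorem A_cube {x : G} (hx : x ∈ W.A) : x ^ 3 = 1 := by
  obtain ⟨m, t, ht, rfl⟩ := W.decomp_A hx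
  have hg : ∀ (i : Fin 4) (n : ℕ), ((W.gen i : G) ^ n) ^ 3 = 1 := fun i n => by
    rw [← pow_mul, mul_comm, pow_mul, W.gen_cube, one_pow]
  have ht3 : t ^ 3 = 1 := by
    obtain ⟨a, rfl⟩ := Subgroup.mem_zpowers_iff.1 ht
    rw [← zpow_natCast, ← zpow_mul, mul_comm, zpow_mul, zpow_natCast, F.cube, one_zpow]
  have c : ∀ (i j : Fin 4) (a b : ℕ), Commute ((W.gen i : G) ^ a) ((W.gen j : G) ^ b) :=
    fun i j a b => (W.gen_comm i j).pow_pow a b
  rw [Commute.mul_pow (Commute.mul_left (((comm_zpow ht (W.gen 0)).pow_left _).mul_left ((comm_zpow ht (W.gen 1)).pow_left _))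
      (((comm_zpow ht (W.gen 2)).pow_left _).mul_left ((comm_zpow ht (W.gen 3)).pow_left _))),
    Commute.mul_pow (((c 0 2 _ _).mul_right (c 0 3 _ _)).mul_left ((c 1 2 _ _).mul_right (c 1 3 _ _))),
    (c 0 1 _ _).mul_pow, (c 2 3 _ _).mul_pow, hg, hg, hg, hg, ht3]
  simp

theorem A_elementary : Cfsg.IsElementaryAbelian 3 W.A :=
  ⟨⟨⟨fun a b => Subtype.ext (W.A_comm a.2 b.2).eq⟩⟩, fun _ ha => W.A_cube ha⟩

theorem card_EE : Nat.card W.EE = 81 := by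
  let f : V → W.EE := fun e => ⟨W.B.elv e, W.mem_EE.2 (W.B.isE_el _ _ _ _)⟩
  have hb : Function.Bijective f := by
    constructor
    · rintro ⟨i, j, k, l⟩ ⟨i', j', k', l'⟩ h
      obtain ⟨rfl, rfl, rfl, rfl⟩ := W.B.el_inj (congrArg Subtype.val h)
      rfl
    · rintro ⟨x, hx⟩
      obtain ⟨i, j, k, l, rfl⟩ := W.B.all_E (W.mem_EE.1 hx)
      exact ⟨(i, j, k, l), rfl⟩
  rw [← Nat.card_congr (Equiv.ofBijective f hb)]
  simp

theorem card_A : Nat.card W.A = 3 ^ 5 := by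
  rw [A, Subgroup.card_map_of_injective (Subgroup.subtype_injective _)]
  let f : ↥(W.EE.comap F.qq) →* ↥W.EE := (F.qq.comp (W.EE.comap F.qq).subtype).codRestrict W.EE fun x => x.2
  have hf : Function.Surjective f := fun e => by
    obtain ⟨x, hx⟩ := F.qq_surj (e : ↥(Subgroup.centralizer ({F.y} : Set G)) ⧸ F.N0)
    exact ⟨⟨x, Subgroup.mem_comap.2 (by rw [hx]; exact e.2)⟩, Subtype.ext hx⟩
  have hker : Nat.card f.ker = 3 := by
    let g : f.ker → Subgroup.zpowers F.y := fun x => ⟨((x.1 : ↥(Subgroup.centralizer ({F.y} : Set G))) : G),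
      (F.qq_ker _).1 (congrArg Subtype.val (MonoidHom.mem_ker.1 x.2))⟩
    have hg : Function.Bijective g := by
      constructor
      · intro a b h
        exact Subtype.ext (Subtype.ext (Subtype.ext (congrArg (fun t : Subgroup.zpowers F.y => (t : G)) h)))
      · rintro ⟨t, ht⟩
        have htC : t ∈ Subgroup.centralizer ({F.y} : Set G) := by
          obtain ⟨m, rfl⟩ := Subgroup.mem_zpowers_iff.1 ht
          exact Subgroup.mem_centralizer_singleton_iff.2 ((Commute.refl F.y).zpow_left m).eq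
        have hq : F.qq ⟨t, htC⟩ = 1 := (F.qq_ker _).2 ht
        exact ⟨⟨⟨⟨t, htC⟩, Subgroup.mem_comap.2 (by rw [hq]; exact one_mem _)⟩, MonoidHom.mem_ker.2 (Subtype.ext hq)⟩, rfl⟩
    rw [Nat.card_congr (Equiv.ofBijective g hg), F.card_zpowers]
  rw [← Subgroup.card_mul_index f.ker, hker, Subgroup.index_ker, MonoidHom.range_eq_top.2 hf, Subgroup.card_top,
    W.card_EE]
  norm_num

theorem centralizer_A : Subgroup.centralizer (W.A : Set G) = W.A := by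
  refine le_antisymm (fun x hx => ?_) fun x hx => Subgroup.mem_centralizer_iff.2 fun a ha => (W.A_comm ha hx).eq
  have hxy : x ∈ Subgroup.centralizer ({F.y} : Set G) :=
    Subgroup.mem_centralizer_singleton_iff.2 (Subgroup.mem_centralizer_iff.1 hx F.y W.y_mem_A).symm
  have h : ∀ i : Fin 4, W.U.IsE (F.qq (W.gen i)) → Commute (F.qq ⟨x, hxy⟩) (F.qq (W.gen i)) := fun i hi => by
    show _ * _ = _ * _
    rw [← map_mul, ← map_mul]
    exact congrArg F.qq (Subtype.ext (Subgroup.mem_centralizer_iff.1 hx _ (W.coe_mem_A.2 hi)).symm)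
  obtain ⟨ea, eb, ev, -⟩ := W.qq_gen
  have h0 := h 0 (ea ▸ W.U.isE_XX W.U.xa_mem)
  have h1 := h 1 (eb ▸ W.U.isE_XX W.U.xb_mem)
  have h2 := h 2 (ev ▸ W.B.v_isI.1)
  rw [ea] at h0
  rw [eb] at h1
  rw [ev] at h2
  exact W.mem_A.2 ⟨hxy, W.U.isE_of_cent h0 h1 h2⟩

end Setting

end Frame

end CfsgLib.SuzThree
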