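import Cfsg.Agent.Lib.SuzThree.Type
import Cfsg.Agent.Lib.U43Type.Final

/-!
The conjugates of the element of order three among the commuting elements of order three.
-/

set_option autoImplicit false
set_option linter.style.haveILetI false
set_option maxRecDepth 10000
set_option synthInstance.maxSize 20000
set_option synthInstance.maxHeartbeats 400000
set_option maxHeartbeats 400000

namespace CfsgLib.SuzThree

open CfsgLib.SuzType CfsgLib.Classical.Quad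
open CfsgLib.U43Type (SL23 Pr Qs)

theorem sl_axis : ∀ r : SL23, r ^ 3 = 1 → r ≠ 1 → ∀ a : SL23, a ^ 3 = 1 →
    ∃ (c : SL23) (j : Fin 3), c * a * c⁻¹ = r ^ (j : ℕ) := by decide +kernel

theorem sl_pow : ∀ r : SL23, r ^ 3 = 1 → r ≠ 1 → ∀ j : Fin 3, r ^ (j : ℕ) = 1 → j = 0 := by decide +kernel

theorem sl_comm : ∀ a : SL23, a ^ 3 = 1 → a ≠ 1 → ∀ b : SL23, b ^ 3 = 1 → a * b = b * a →
    ∃ j : Fin 3, b = a ^ (j : ℕ) := by decide +kernel

theorem rot_three : ∀ p : Par, (∀ n, T p (T p (T p n)) = n) → IsRot p := by decide +kernel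

/-- The fixed vectors of a rotation. -/
def fx (i j k : Fin 3) (v : V6) : V6 :=
  (rot a1 b1)^[i.val] ((rot a2 b2)^[j.val] ((rot a3 b3)^[k.val] v))

/-- Exactly one of three propositions fails. -/
def One (p q r : Prop) : Prop := (¬p ∧ q ∧ r) ∨ (p ∧ ¬q ∧ r) ∨ (p ∧ q ∧ ¬r)

instance (p q r : Prop) [Decidable p] [Decidable q] [Decidable r] : Decidable (One p q r) := by
  unfold One; infer_instance

theorem fix_count : ∀ i j k : Fin 3, Fintype.card {v : V6 // fx i j k v = v} = 16 →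
    One (i = 0) (j = 0) (k = 0) := by decide +kernel

theorem fix_R1 : Fintype.card {v : V6 // rot a1 b1 v = v} = 16 := by decide +kernel

theorem pow_apply' {g : Orth Q6} {f : V6 → V6} (h : ∀ v, g.1 v = f v) : ∀ (m : ℕ) (v : V6), (g ^ m).1 v = f^[m] v
  | 0, v => by rw [pow_zero, one_apply]; rfl
  | m + 1, v => by rw [pow_succ, mul_apply, h, pow_apply' h m, Function.iterate_succ_apply]

theorem rot_apply (i j k : Fin 3) (v : V6) :
    (R1 ^ i.val * (R2 ^ j.val * R3 ^ k.val)).1 v = fx i j k v := by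
  rw [mul_apply, mul_apply, pow_apply' R3_apply, pow_apply' R2_apply, pow_apply' R1_apply]
  rfl

/-- A rotation conjugate to the first one is a power of one of the three. -/
theorem one_of_conj {k : Orth Q6} {i j l : Fin 3}
    (h : k * R1 * k⁻¹ = R1 ^ i.val * (R2 ^ j.val * R3 ^ l.val)) : One (i = 0) (j = 0) (l = 0) := by
  refine fix_count _ _ _ (Eq.trans (Fintype.card_congr ?_).symm fix_R1)
  refine k.1.toEquiv.subtypeEquiv fun v => ?_
  rw [← rot_apply, ← h]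
  show rot a1 b1 v = v ↔ (k * R1 * k⁻¹).1 (k.1 v) = k.1 v
  rw [mul_apply, mul_apply, inv_apply_self, k.1.injective.eq_iff, R1_apply]

theorem flip_facts : ∀ n : Fin 3 × Fin 3,
    rot a1 b1 (rf a1 (rf a2 (rot a1 b1 (nine n)))) = rf a1 (rf a2 (nine n)) ∧
    rot a2 b2 (rf a1 (rf a2 (rot a2 b2 (nine n)))) = rf a1 (rf a2 (nine n)) ∧
    rf a1 (rf a2 (rot a3 b3 (nine n))) = rot a3 b3 (rf a1 (rf a2 (nine n))) := by decide +kernel

/-- An element inverting the first two rotations and centralizing the third. -/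
theorem exists_flip_rot : ∃ k ∈ Ev, k * R1 * k⁻¹ = R1⁻¹ ∧ k * R2 * k⁻¹ = R2⁻¹ ∧ k * R3 * k⁻¹ = R3 := by
  refine ⟨_, rr_mem one_a1.1 one_a2.1, ?_, ?_, ?_⟩
  · rw [mul_inv_eq_iff_eq_mul, eq_inv_mul_iff_mul_eq]
    refine ext_nine fun n => ?_
    simp only [mul_apply, refl6 one_a1.1, refl6 one_a2.1, R1_apply]
    exact (flip_facts n).1
  · rw [mul_inv_eq_iff_eq_mul, eq_inv_mul_iff_mul_eq]
    refine ext_nine fun n => ?_
    simp only [mul_apply, refl6 one_a1.1, refl6 one_a2.1, R2_apply]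
    exact (flip_facts n).2.1
  · rw [mul_inv_eq_iff_eq_mul]
    refine ext_nine fun n => ?_
    simp only [mul_apply, refl6 one_a1.1, refl6 one_a2.1, R3_apply]
    exact (flip_facts n).2.2

universe u

variable {G : Type u} [Group G]

namespace Frame

variable {S : Sys G} {z : G} (F : Frame S z)

/-- The conjugates of `y`. -/
def K3 (x : G) : Prop := IsConj F.y x

theorem k3_conj {x : G} (g : G) (h : F.K3 x) : F.K3 (g * x * g⁻¹) :=
  h.trans (isConj_iff.2 ⟨g, rfl⟩)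

theorem k3_of_conj {x : G} (g : G) (h : F.K3 (g * x * g⁻¹)) : F.K3 x := by
  have := F.k3_conj g⁻¹ h
  rwa [show g⁻¹ * (g * x * g⁻¹) * g⁻¹⁻¹ = x by group] at this

theorem k3_self : F.K3 F.y := IsConj.refl _

theorem k3_inv {x : G} (h : F.K3 x) : F.K3 x⁻¹ := by
  obtain ⟨g, rfl⟩ := isConj_iff.1 h
  obtain ⟨c, -, hc⟩ := F.invert_y
  have := F.k3_conj g (F.k3_conj c F.k3_self)
  rw [hc] at this
  rwa [show (g * F.y * g⁻¹)⁻¹ = g * F.y⁻¹ * g⁻¹ by group]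

theorem k3_axes : F.K3 F.y2 ∧ F.K3 F.y3 := by
  obtain ⟨c, -, hc⟩ := F.conj_y2
  have h2 : F.K3 F.y2 := F.k3_of_conj c (by rw [hc]; exact F.k3_self)
  refine ⟨h2, ?_⟩
  obtain ⟨d, -, -, hd | hd⟩ := F.conj_y3
  · exact F.k3_of_conj d (by rw [hd]; exact h2)
  · exact F.k3_of_conj d (by rw [hd]; exact F.k3_inv h2)

theorem k3_pow {x : G} (h : F.K3 x) {j : Fin 3} (hj : j ≠ 0) : F.K3 (x ^ (j : ℕ)) := by
  obtain ⟨g, rfl⟩ := isConj_iff.1 h
  rcases (by decide : ∀ j : Fin 3, j ≠ 0 → j = 1 ∨ j = 2) j hj with rfl | rfl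
  · rwa [show ((1 : Fin 3) : ℕ) = 1 from rfl, pow_one]
  · have h2 : g * F.y ^ 2 * g⁻¹ = (g * F.y * g⁻¹)⁻¹ := by
      rw [show F.y ^ 2 = F.y⁻¹ from eq_inv_of_mul_eq_one_left (by rw [← pow_succ, F.cube])]
      group
    rw [show ((2 : Fin 3) : ℕ) = 2 from rfl, conj_pow, h2]
    exact F.k3_inv h

/-- The cyclic subgroup in the centralizer. -/
def N0 : Subgroup ↥(Subgroup.centralizer ({F.y} : Set G)) :=
  (Subgroup.zpowers F.y).subgroupOf (Subgroup.centralizer ({F.y} : Set G))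

instance N0_normal : F.N0.Normal := ⟨fun n hn g => by
  rw [N0, Subgroup.mem_subgroupOf] at hn ⊢
  obtain ⟨k, hk⟩ := Subgroup.mem_zpowers_iff.1 hn
  have h : Commute (g : G) ((n : ↥(Subgroup.centralizer ({F.y} : Set G))) : G) := by
    rw [← hk]
    exact Commute.zpow_right (Subgroup.mem_centralizer_singleton_iff.1 g.2) k
  rw [Subgroup.coe_mul, Subgroup.coe_mul, Subgroup.coe_inv, h.eq, mul_inv_cancel_right, ← hk]
  exact Subgroup.zpow_mem _ (Subgroup.mem_zpowers _) k⟩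

/-- The quotient of the centralizer by the cyclic subgroup. -/
def qq : ↥(Subgroup.centralizer ({F.y} : Set G)) →* ↥(Subgroup.centralizer ({F.y} : Set G)) ⧸ F.N0 :=
  QuotientGroup.mk' F.N0

theorem qq_surj : Function.Surjective F.qq := QuotientGroup.mk'_surjective _

theorem qq_ker (x : ↥(Subgroup.centralizer ({F.y} : Set G))) :
    F.qq x = 1 ↔ (x : G) ∈ Subgroup.zpowers F.y := by
  rw [qq, QuotientGroup.mk'_apply, QuotientGroup.eq_one_iff]
  exact Iff.rfl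

theorem z_mem_C : z ∈ Subgroup.centralizer ({F.y} : Set G) :=
  Subgroup.mem_centralizer_singleton_iff.2 F.hy.1.symm.eq

/-- The centralizer of `y` has one class of involutions. -/
theorem one_class [Finite G] {u : G} (hu : Commute u F.y) (h2 : u * u = 1) (h1 : u ≠ 1) :
    ∃ c, Commute c F.y ∧ c * u * c⁻¹ = z := by
  obtain ⟨P⟩ := F.exists_factors
  obtain ⟨D, hD, -⟩ := P.hyp F.qq F.qq_surj F.qq_ker
  have h3 : ∀ t ∈ Subgroup.zpowers F.y, t * t = 1 → t = 1 := fun t ht h =>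
    F.y_pow_two ht (m := 1) (by rw [pow_one, pow_two, h])
  have huN : u ∈ Subgroup.centralizer ({F.y} : Set G) := Subgroup.mem_centralizer_singleton_iff.2 hu.eq
  have hne : F.qq ⟨u, huN⟩ ≠ 1 := fun e => h1 (h3 u ((F.qq_ker _).1 e) h2)
  have ho : ∀ {h : ↥(Subgroup.centralizer ({F.y} : Set G)) ⧸ F.N0}, h * h = 1 → h ≠ 1 → orderOf h = 2 :=
    fun e ne => orderOf_eq_prime (by rw [pow_two, e]) ne
  obtain ⟨cq, hcq⟩ := isConj_iff.1 ((CfsgLib.U43Type.order_and_class D).2 (F.qq ⟨u, huN⟩) D.z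
    (ho (by rw [← map_mul]; exact (F.qq_ker _).2 (by show u * u ∈ _; rw [h2]; exact one_mem _)) hne)
    (ho D.z_sq D.z_ne))
  obtain ⟨c, rfl⟩ := F.qq_surj cq
  refine ⟨c, Subgroup.mem_centralizer_singleton_iff.1 c.2, ?_⟩
  have hc : Commute (c : G) F.y := Subgroup.mem_centralizer_singleton_iff.1 c.2
  have ht : (c : G) * u * (c : G)⁻¹ * z⁻¹ ∈ Subgroup.zpowers F.y := by
    refine (F.qq_ker (c * ⟨u, huN⟩ * c⁻¹ * ⟨z, F.z_mem_C⟩⁻¹)).1 ?_
    rw [map_mul, map_mul, map_mul, map_inv, map_inv, hcq, hD, mul_inv_cancel]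
  refine mul_inv_eq_one.1 (h3 _ ht ?_)
  obtain ⟨n, hn⟩ := Subgroup.mem_zpowers_iff.1 ht
  have htz : Commute ((c : G) * u * (c : G)⁻¹ * z⁻¹) z := by rw [← hn]; exact F.hy.1.zpow_left n
  have hzi : z⁻¹ = z := inv_eq_of_mul_eq_one_right F.M.sq_one
  rw [hzi] at htz ⊢
  calc (c : G) * u * (c : G)⁻¹ * z * ((c : G) * u * (c : G)⁻¹ * z)
      = (c : G) * u * (c : G)⁻¹ * (z * ((c : G) * u * (c : G)⁻¹ * z)) := by group
    _ = (c : G) * u * (c : G)⁻¹ * ((c : G) * u * (c : G)⁻¹ * z * z) := by rw [← htz.eq]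
    _ = (c : G) * (u * u) * (c : G)⁻¹ := by rw [mul_assoc _ z z, F.M.sq_one]; group
    _ = 1 := by rw [h2, mul_one, mul_inv_cancel]

/-- A conjugate of `y` centralizing `z` and `y` acts as a conjugate of the first rotation. -/
theorem k3_acts [Finite G] {x : G} (hx : x ∈ F.W) (h : F.K3 x) :
    ∃ k : Orth Q6, Acts z (S.E z) F.π x (k * R1 * k⁻¹) := by
  obtain ⟨g, hg⟩ := isConj_iff.1 h
  obtain ⟨hxz, -⟩ := F.mem_W.1 hx
  obtain ⟨c, hcy, hc⟩ := F.one_class (u := g⁻¹ * z * g) (by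
      show _ = _
      calc g⁻¹ * z * g * F.y = g⁻¹ * z * (g * F.y * g⁻¹) * g := by group
        _ = g⁻¹ * (z * x) * g := by rw [hg]; group
        _ = g⁻¹ * (x * z) * g := by rw [hxz.eq]
        _ = g⁻¹ * (g * F.y * g⁻¹ * z) * g := by rw [hg]
        _ = F.y * (g⁻¹ * z * g) := by group)
    (by rw [show g⁻¹ * z * g * (g⁻¹ * z * g) = g⁻¹ * (z * z) * g by group, F.M.sq_one, mul_one, inv_mul_cancel])
    (fun e => F.M.ne_one (by rw [show z = g * (g⁻¹ * z * g) * g⁻¹ by group, e]; group))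
  have hz : Commute (g * c⁻¹) z := by
    refine conj_eq_iff_commute.1 ?_
    conv_lhs => arg 1; arg 2; rw [← hc]
    group
  obtain ⟨k, -, hk⟩ := F.M.act _ hz
  refine ⟨k, ?_⟩
  have := F.M.acts_mul (F.M.acts_mul hk F.hy) (F.M.acts_inv hk)
  rwa [show g * c⁻¹ * F.y * (g * c⁻¹)⁻¹ = g * (c⁻¹ * F.y * c⁻¹⁻¹) * g⁻¹ by group,
    conj_eq_iff_commute.2 hcy.inv_left, hg] at this

variable {F} (P : F.Factors)

/-- An element of order dividing three commuting with `z` and `y`. -/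
theorem Factors.form {x : G} (hx : x ∈ F.W) (h3 : x ^ 3 = 1) :
    ∃ (n : Fin 3) (a b : SL23), a ^ 3 = 1 ∧ b ^ 3 = 1 ∧ x = F.y ^ (n : ℕ) * (P.f0 (a, b) : G) := by
  obtain ⟨p, hp⟩ := exists_par (F.φ_comm ⟨x, hx⟩)
  have hrot : IsRot p := rot_three p fun n => by
    have h : (El p * El p * El p).1 (nine n) = nine n := by
      rw [← hp, ← map_mul, ← map_mul,
        show (⟨x, hx⟩ * ⟨x, hx⟩ * ⟨x, hx⟩ : ↥F.W) = 1 from Subtype.ext (by
          show x * x * x = 1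
          rw [← pow_two, ← pow_succ, h3]), map_one, one_apply]
    rw [mul_apply, mul_apply, El_nine, El_nine, El_nine] at h
    exact nine_injective h
  obtain ⟨r, i, hr⟩ := P.mem_range hx hrot hp
  have hcy : Commute (P.f0 r : G) F.y := Subgroup.mem_centralizer_singleton_iff.1 (P.f0 r).2
  have hc : Commute (P.f0 r : G) (F.y ^ i) := hcy.pow_right i
  have hr3 : (P.f0 (r ^ 3) : G) = 1 := by
    have := congrArg (fun t : G => t ^ 3) hr
    simp only [h3, hc.mul_pow, ← pow_mul, mul_comm i 3] at this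
    rw [pow_mul, F.cube, one_pow, mul_one] at this
    rw [map_pow, SubmonoidClass.coe_pow]
    exact this.symm
  have h12 : (r ^ 4) ^ 3 = 1 := by
    rw [← pow_mul, show 4 * 3 = 3 * 4 from rfl, pow_mul]
    rcases P.eq_of_trivial _ hr3 with e | e <;> rw [e]
    · exact one_pow 4
    · decide +kernel
  refine ⟨⟨i % 3, Nat.mod_lt _ (by norm_num)⟩, (r ^ 4).1, (r ^ 4).2, congrArg Prod.fst h12,
    congrArg Prod.snd h12, ?_⟩
  rw [hr, hc.eq, Prod.mk.eta, pow_succ r, map_mul, Subgroup.coe_mul, hr3, one_mul, pow_eq_pow_mod i F.cube]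

theorem Factors.f0_coe_mul (p q : Pr) : (P.f0 (p * q) : G) = P.f0 p * P.f0 q := by
  rw [map_mul, Subgroup.coe_mul]

theorem Factors.f0_comm_y (p : Pr) : Commute (P.f0 p : G) F.y :=
  Subgroup.mem_centralizer_singleton_iff.1 (P.f0 p).2

theorem Factors.f0_comm_z (p : Pr) : Commute (P.f0 p : G) z := (F.mem_W.1 (P.f0_W p)).1

theorem Factors.conj_f0 (n : ℕ) (c p : Pr) :
    (P.f0 c : G) * (F.y ^ n * P.f0 p) * (P.f0 c : G)⁻¹ = F.y ^ n * P.f0 (c * p * c⁻¹) := by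
  rw [map_mul, map_mul, map_inv, Subgroup.coe_mul, Subgroup.coe_mul, Subgroup.coe_inv,
    ← mul_assoc (P.f0 c : G), ((P.f0_comm_y c).pow_right n).eq]
  group

/-- The roots of the two factors. -/
theorem Factors.roots : ∃ r2 r3 : SL23, (P.B2.ψ r2 = F.y2 ∧ r2 ^ 3 = 1 ∧ r2 ≠ 1) ∧
    (P.B3.ψ r3 = F.y3 ∧ r3 ^ 3 = 1 ∧ r3 ≠ 1) := by
  obtain ⟨a, ha⟩ := P.B2.r_mem
  obtain ⟨b, hb⟩ := P.B3.r_mem
  refine ⟨a, b, ⟨ha, P.B2.inj (by rw [map_pow, ha, F.cube2, map_one]), fun h => ?_⟩,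
    ⟨hb, P.B3.inj (by rw [map_pow, hb, F.cube3, map_one]), fun h => ?_⟩⟩
  · rw [h, map_one] at ha
    have h2 := F.M.acts_unique F.hy2 (ha ▸ F.M.acts_mem (S.E z).one_mem)
    have := congrArg (fun k : Orth Q6 => k.1 a2) h2
    simp only [R2_apply, one_apply] at this
    exact absurd this (by decide)
  · rw [h, map_one] at hb
    have h2 := F.M.acts_unique F.hy3 (hb ▸ F.M.acts_mem (S.E z).one_mem)
    have := congrArg (fun k : Orth Q6 => k.1 a3) h2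
    simp only [R3_apply, one_apply] at this
    exact absurd this (by decide)

theorem Factors.normalise {a b : SL23} (ha : a ^ 3 = 1) (hb : b ^ 3 = 1) :
    ∃ (c : Pr) (j k : Fin 3), (∀ n : ℕ, (P.f0 c : G) * (F.y ^ n * P.f0 (a, b)) * (P.f0 c : G)⁻¹ =
        F.y ^ n * (F.y2 ^ (j : ℕ) * F.y3 ^ (k : ℕ))) ∧
      (∀ n : ℕ, Acts z (S.E z) F.π (F.y ^ n * P.f0 (a, b)) (R1 ^ n * (R2 ^ (j : ℕ) * R3 ^ (k : ℕ)))) ∧
      (a = 1 ↔ j = 0) ∧ (b = 1 ↔ k = 0) ∧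
      ((P.f0 (c.1, 1) : G) * P.f0 (a, 1) * (P.f0 (c.1, 1) : G)⁻¹ = F.y2 ^ (j : ℕ)) ∧
      (P.f0 (1, c.2) : G) * P.f0 (1, b) * (P.f0 (1, c.2) : G)⁻¹ = F.y3 ^ (k : ℕ) := by
  obtain ⟨r2, r3, ⟨e2, h2, n2⟩, ⟨e3, h3, n3⟩⟩ := P.roots
  obtain ⟨c, j, hj⟩ := sl_axis r2 h2 n2 a ha
  obtain ⟨d, k, hk⟩ := sl_axis r3 h3 n3 b hb
  have hconj : ∀ n : ℕ, (P.f0 (c, d) : G) * (F.y ^ n * P.f0 (a, b)) * (P.f0 (c, d) : G)⁻¹ =
      F.y ^ n * (F.y2 ^ (j : ℕ) * F.y3 ^ (k : ℕ)) := fun n => by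
    rw [P.conj_f0, show ((c, d) : Pr) * (a, b) * (c, d)⁻¹ = (c * a * c⁻¹, d * b * d⁻¹) from rfl, hj, hk,
      P.f0_apply, map_pow, map_pow, e2, e3]
  refine ⟨(c, d), j, k, hconj, fun n => ?_, ?_, ?_, ?_, ?_⟩
  · obtain ⟨i', j', hw⟩ := P.f0_acts (c, d)
    obtain ⟨-, -, -, g12, g13, g23⟩ := rot_facts
    have ht := F.M.acts_mul (F.M.acts_pow F.hy n) (F.M.acts_mul (F.M.acts_pow F.hy2 j) (F.M.acts_pow F.hy3 k))
    have hcom : Commute (R2 ^ i' * R3 ^ j') (R1 ^ n * (R2 ^ (j : ℕ) * R3 ^ (k : ℕ))) := by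
      refine Commute.mul_left ?_ ?_
      · exact ((g12.symm.pow_pow i' n)).mul_right (((Commute.refl R2).pow_pow i' j).mul_right (g23.pow_pow i' k))
      · exact ((g13.symm.pow_pow j' n)).mul_right ((g23.symm.pow_pow j' j).mul_right ((Commute.refl R3).pow_pow j' k))
    have := F.M.acts_mul (F.M.acts_mul (F.M.acts_inv hw) ht) hw
    rw [← hconj n] at this
    rwa [hcom.inv_left.eq, inv_mul_cancel_right, show ((P.f0 (c, d) : G))⁻¹ *
      ((P.f0 (c, d) : G) * (F.y ^ n * P.f0 (a, b)) * (P.f0 (c, d) : G)⁻¹) * (P.f0 (c, d) : G) =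
        F.y ^ n * P.f0 (a, b) by group] at this
  · exact ⟨fun h => sl_pow r2 h2 n2 j (by rw [← hj, h, mul_one, mul_inv_cancel]),
      fun h => by rw [h, show ((0 : Fin 3) : ℕ) = 0 from rfl, pow_zero] at hj; exact conj_eq_one_iff.1 hj⟩
  · exact ⟨fun h => sl_pow r3 h3 n3 k (by rw [← hk, h, mul_one, mul_inv_cancel]),
      fun h => by rw [h, show ((0 : Fin 3) : ℕ) = 0 from rfl, pow_zero] at hk; exact conj_eq_one_iff.1 hk⟩
  · rw [← Subgroup.coe_inv, ← map_inv, ← P.f0_coe_mul, ← P.f0_coe_mul,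
      show ((c, 1) : Pr) * (a, 1) * (c, 1)⁻¹ = (c * a * c⁻¹, 1 * 1 * 1⁻¹) from rfl, hj, P.f0_apply]
    simp [e2]
  · rw [← Subgroup.coe_inv, ← map_inv, ← P.f0_coe_mul, ← P.f0_coe_mul,
      show ((1, d) : Pr) * (1, b) * (1, d)⁻¹ = (1 * 1 * 1⁻¹, d * b * d⁻¹) from rfl, hk, P.f0_apply]
    simp [e3]

/-- The conjugates of `y` among these elements. -/
theorem Factors.k3_iff [Finite G] {a b : SL23} (ha : a ^ 3 = 1) (hb : b ^ 3 = 1) (n : Fin 3) :
    F.K3 (F.y ^ (n : ℕ) * P.f0 (a, b)) ↔ One (n = 0) (a = 1) (b = 1) := by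
  obtain ⟨c, j, k, hconj, hact, hj, hk, -, -⟩ := P.normalise ha hb
  rw [hj, hk]
  constructor
  · intro h
    have hW : F.y ^ (n : ℕ) * (P.f0 (a, b) : G) ∈ F.W := F.W.mul_mem (F.pow_y_mem _) (P.f0_W _)
    obtain ⟨g, hg⟩ := F.k3_acts hW h
    exact one_of_conj (F.M.acts_unique hg (hact n))
  · intro h
    refine F.k3_of_conj (P.f0 c : G) ?_
    rw [hconj]
    rcases h with ⟨hn, rfl, rfl⟩ | ⟨rfl, hn, rfl⟩ | ⟨rfl, rfl, hn⟩
    · simpa using F.k3_pow F.k3_self hn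
    · simpa using F.k3_pow F.k3_axes.1 hn
    · simpa using F.k3_pow F.k3_axes.2 hn

variable (F)

/-- An element of the centralizer of `z` inverting `y` and `y2` and centralizing `y3`. -/
theorem exists_flip [Finite G] : ∃ c, Commute c z ∧ c * F.y * c⁻¹ = F.y⁻¹ ∧ c * F.y2 * c⁻¹ = F.y2⁻¹ ∧
    c * F.y3 * c⁻¹ = F.y3 := by
  obtain ⟨P⟩ := F.exists_factors
  obtain ⟨k, hk, e1, e2, e3⟩ := exists_flip_rot
  obtain ⟨c, hc⟩ := F.M.lift k hk
  have h1 : Acts z (S.E z) F.π (c * F.y * c⁻¹) R1⁻¹ :=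
    e1 ▸ F.M.acts_mul (F.M.acts_mul hc F.hy) (F.M.acts_inv hc)
  obtain ⟨f, hf, hfy, -⟩ := F.M.exists_conj3 h1 (F.M.acts_inv F.hy)
    (by rw [conj_pow, F.cube, mul_one, mul_inv_cancel]) (by rw [inv_pow, F.cube, inv_one])
  obtain ⟨d, hddef⟩ : ∃ d, d = f * c := ⟨_, rfl⟩
  have hd : Acts z (S.E z) F.π d k := by simpa [hddef] using F.M.acts_mul (F.M.acts_mem hf) hc
  have hdy : d * F.y * d⁻¹ = F.y⁻¹ := by rw [hddef, ← hfy]; group
  have hW : ∀ {r : G}, Commute r z → Commute r F.y → d * r * d⁻¹ ∈ F.W := fun {r} hz hy =>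
    F.mem_W.2 ⟨(hd.1.mul_left hz).mul_left hd.1.inv_left, by
      have : Commute (d * r * d⁻¹) (d * F.y * d⁻¹) := hy.map (MulAut.conj d).toMonoidHom
      rw [hdy] at this
      exact Commute.inv_right_iff.1 this⟩
  obtain ⟨-, c2, c3, -, -, -⟩ := rot_facts
  obtain ⟨n, a, b, ha, hb, hx⟩ := P.form (hW F.hy2.1 F.c12) (by rw [conj_pow, F.cube2, mul_one, mul_inv_cancel])
  obtain ⟨c', j, l, -, hact, hj, hl, hcj, -⟩ := P.normalise ha hb
  have hu := F.M.acts_unique (hact n) (hx ▸ F.M.acts_mul (F.M.acts_mul hd F.hy2) (F.M.acts_inv hd))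
  rw [e2, show R2⁻¹ = R1 ^ 0 * (R2 ^ 2 * R3 ^ 0) by
    simp only [pow_zero, one_mul, mul_one]; exact inv_eq_of_mul_eq_one_right (by rw [← pow_succ', c2])] at hu
  obtain ⟨i1, i2, i3⟩ := rot_indep hu
  obtain rfl : n = 0 := Fin.ext (by have := n.isLt; omega)
  obtain rfl : j = 2 := Fin.ext (by have := j.isLt; show (j : ℕ) = 2; omega)
  obtain rfl : l = 0 := Fin.ext (by have := l.isLt; omega)
  obtain rfl : b = 1 := hl.2 rfl
  obtain ⟨n', a', b', ha', hb', hx'⟩ := P.form (hW F.hy3.1 F.c13) (by rw [conj_pow, F.cube3, mul_one, mul_inv_cancel])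
  obtain ⟨c'', j', l', -, hact', hj', hl', -, hck⟩ := P.normalise ha' hb'
  have hu' := F.M.acts_unique (hact' n') (hx' ▸ F.M.acts_mul (F.M.acts_mul hd F.hy3) (F.M.acts_inv hd))
  rw [e3, show R3 = R1 ^ 0 * (R2 ^ 0 * R3 ^ 1) by simp] at hu'
  obtain ⟨i1', i2', i3'⟩ := rot_indep hu'
  obtain rfl : n' = 0 := Fin.ext (by have := n'.isLt; omega)
  obtain rfl : j' = 0 := Fin.ext (by have := j'.isLt; omega)
  obtain rfl : l' = 1 := Fin.ext (by have := l'.isLt; show (l' : ℕ) = 1; omega)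
  obtain rfl : a' = 1 := hj'.2 rfl
  refine ⟨(P.f0 (c'.1, c''.2) : G) * d, (P.f0_comm_z _).mul_left hd.1, ?_, ?_, ?_⟩
  · rw [show (P.f0 (c'.1, c''.2) : G) * d * F.y * ((P.f0 (c'.1, c''.2) : G) * d)⁻¹ =
      (P.f0 (c'.1, c''.2) : G) * (d * F.y * d⁻¹) * (P.f0 (c'.1, c''.2) : G)⁻¹ by group, hdy,
      conj_eq_iff_commute.2 (P.f0_comm_y _).inv_right]
  · rw [show (P.f0 (c'.1, c''.2) : G) * d * F.y2 * ((P.f0 (c'.1, c''.2) : G) * d)⁻¹ =
      (P.f0 (c'.1, c''.2) : G) * (d * F.y2 * d⁻¹) * (P.f0 (c'.1, c''.2) : G)⁻¹ by group, hx]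
    simp only [Fin.val_zero, pow_zero, one_mul]
    refine Eq.trans ?_ (hcj.trans ((inv_eq_of_mul_eq_one_right
      (show F.y2 * F.y2 ^ 2 = 1 by rw [← pow_succ', F.cube2])).symm))
    rw [← Subgroup.coe_inv, ← Subgroup.coe_inv, ← map_inv, ← map_inv,
      ← P.f0_coe_mul, ← P.f0_coe_mul, ← P.f0_coe_mul, ← P.f0_coe_mul]
    congr 2
    exact Prod.ext rfl (by simp)
  · rw [show (P.f0 (c'.1, c''.2) : G) * d * F.y3 * ((P.f0 (c'.1, c''.2) : G) * d)⁻¹ =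
      (P.f0 (c'.1, c''.2) : G) * (d * F.y3 * d⁻¹) * (P.f0 (c'.1, c''.2) : G)⁻¹ by group, hx']
    simp only [Fin.val_zero, pow_zero, one_mul]
    refine Eq.trans ?_ (hck.trans (pow_one F.y3))
    rw [← Subgroup.coe_inv, ← Subgroup.coe_inv, ← map_inv, ← map_inv, ← P.f0_coe_mul, ← P.f0_coe_mul,
      ← P.f0_coe_mul, ← P.f0_coe_mul]
    congr 2
    exact Prod.ext (by simp) rfl

/-- An element moving `y2` to `y` and the other axes to axes. -/
theorem exists_mover [Finite G] : ∃ g, Commute g z ∧ g * F.y2 * g⁻¹ = F.y ∧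
    g * F.y * g⁻¹ ∈ Subgroup.closure ({F.y, F.y2, F.y3} : Set G) ∧
    g * F.y3 * g⁻¹ ∈ Subgroup.closure ({F.y, F.y2, F.y3} : Set G) := by
  obtain ⟨P⟩ := F.exists_factors
  obtain ⟨d, hdz, hd⟩ := F.conj_y2
  have hW : ∀ {r : G}, Commute r z → Commute r F.y2 → d * r * d⁻¹ ∈ F.W := fun {r} hz hy =>
    F.mem_W.2 ⟨(hdz.mul_left hz).mul_left hdz.inv_left, by
      have : Commute (d * r * d⁻¹) (d * F.y2 * d⁻¹) := hy.map (MulAut.conj d).toMonoidHom
      rwa [hd] at this⟩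
  have hnz : ∀ {r : G}, Commute r z → Commute r F.y2 → F.K3 r → r ^ 3 = 1 →
      r ∉ Subgroup.zpowers F.y2 → ∃ a b : SL23, a ^ 3 = 1 ∧ b ^ 3 = 1 ∧ One True (a = 1) (b = 1) ∧
        d * r * d⁻¹ = (P.f0 (a, b) : G) := by
    intro r hz hy hk h3 hn
    obtain ⟨n, a, b, ha, hb, hx⟩ := P.form (hW hz hy) (by rw [conj_pow, h3, mul_one, mul_inv_cancel])
    have h1 := (P.k3_iff ha hb n).1 (hx ▸ F.k3_conj d hk)
    rcases h1 with ⟨-, rfl, rfl⟩ | ⟨rfl, h1, h2⟩ | ⟨rfl, h1, h2⟩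
    · exfalso
      refine hn (Subgroup.mem_zpowers_iff.2 ⟨(n : ℕ), ?_⟩)
      rw [show ((1, 1) : Pr) = 1 from rfl, map_one, Subgroup.coe_one, mul_one] at hx
      rw [zpow_natCast, show r = d⁻¹ * (d * r * d⁻¹) * d by group, hx, ← hd, conj_pow]
      group
    · exact ⟨a, b, ha, hb, Or.inr (Or.inl ⟨trivial, h1, h2⟩), by simpa using hx⟩
    · exact ⟨a, b, ha, hb, Or.inr (Or.inr ⟨trivial, h1, h2⟩), by simpa using hx⟩
  have hrot : ∀ {i j : ℕ}, F.y = F.y2 ^ i ∨ F.y3 = F.y2 ^ i ∨ F.y3 = F.y ^ j → False := by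
    intro i j h
    rcases h with h | h | h
    · have := F.M.acts_unique F.hy (h ▸ F.M.acts_pow F.hy2 i)
      exact absurd (rot_indep (i := 1) (j := 0) (k := 0) (i' := 0) (j' := i) (k' := 0) (by simpa using this)).1
        (by norm_num)
    · have := F.M.acts_unique F.hy3 (h ▸ F.M.acts_pow F.hy2 i)
      exact absurd (rot_indep (i := 0) (j := 0) (k := 1) (i' := 0) (j' := i) (k' := 0) (by simpa using this)).2.2
        (by norm_num)
    · have := F.M.acts_unique F.hy3 (h ▸ F.M.acts_pow F.hy j)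
      exact absurd (rot_indep (i := 0) (j := 0) (k := 1) (i' := j) (j' := 0) (k' := 0) (by simpa using this)).2.2
        (by norm_num)
  have hmem : ∀ {x t : G}, x ^ 3 = 1 → t ∈ Subgroup.zpowers x → ∃ i : ℕ, t = x ^ i := fun {x t} h3 ht => by
    obtain ⟨m, hm⟩ := Subgroup.mem_zpowers_iff.1 ht
    refine ⟨(m % 3).toNat, ?_⟩
    rw [← hm, ← zpow_natCast, Int.toNat_of_nonneg (Int.emod_nonneg m (by norm_num))]
    conv_lhs => rw [← Int.mul_ediv_add_emod m 3, zpow_add, zpow_mul,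
      show x ^ (3 : ℤ) = 1 from (zpow_natCast x 3).trans h3, one_zpow, one_mul]
  obtain ⟨a, b, ha, hb, h1, hx⟩ := hnz F.hy.1 F.c12.symm F.k3_self F.cube fun h =>
    (hmem F.cube2 h).elim fun i e => hrot (j := 0) (Or.inl e)
  obtain ⟨a', b', ha', hb', h1', hx'⟩ := hnz F.hy3.1 F.c23 F.k3_axes.2 F.cube3 fun h =>
    (hmem F.cube2 h).elim fun i e => hrot (j := 0) (Or.inr (Or.inl e))
  have hpp : (a * a', b * b') = (a' * a, b' * b) ∨ ((a * a', b * b') : Pr) = (a' * a * SL23.neg, b' * b * SL23.neg) := by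
    have hc : Commute (d * F.y * d⁻¹) (d * F.y3 * d⁻¹) := F.c13.symm.map (MulAut.conj d).toMonoidHom
    rw [hx, hx'] at hc
    have h0 : (P.f0 ((((a', b') : Pr) * (a, b))⁻¹ * (((a, b) : Pr) * (a', b'))) : G) = 1 := by
      rw [P.f0_coe_mul, map_inv, Subgroup.coe_inv, P.f0_coe_mul, P.f0_coe_mul, hc.eq, inv_mul_cancel]
    rcases P.eq_of_trivial _ h0 with e | e
    · exact Or.inl (inv_mul_eq_one.1 e).symm
    · exact Or.inr (inv_mul_eq_iff_eq_mul.1 e)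
  have hside : ∀ {a a' b b' : SL23}, a ^ 3 = 1 → a' ^ 3 = 1 → b = 1 → b' = 1 → a ≠ 1 →
      ((a * a', b * b') = (a' * a, b' * b) ∨ ((a * a', b * b') : Pr) = (a' * a * SL23.neg, b' * b * SL23.neg)) →
      ∃ j : Fin 3, a' = a ^ (j : ℕ) := fun {a a' b b'} h h' eb eb' hne e => by
    subst eb eb'
    rcases e with e | e
    · exact sl_comm a h hne a' h' (congrArg Prod.fst e)
    · have e2 : (1 : SL23) * 1 = 1 * 1 * SL23.neg := congrArg Prod.snd e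
      exact absurd e2 (by decide +kernel)
  have hsame : ∀ j : ℕ, (a', b') = ((a, b) : Pr) ^ j → False := fun j e => by
    refine hrot (i := 0) (j := j) (Or.inr (Or.inr ?_))
    rw [e, map_pow, SubmonoidClass.coe_pow, ← hx, conj_pow] at hx'
    exact mul_left_cancel (mul_right_cancel hx')
  obtain ⟨c, j, k, -, -, hj, hk, hcj, hck⟩ := P.normalise ha hb
  obtain ⟨c', j', k', -, -, hj', hk', hcj', hck'⟩ := P.normalise ha' hb'
  have hax : ∀ (j : ℕ), F.y2 ^ j ∈ Subgroup.closure ({F.y, F.y2, F.y3} : Set G) ∧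
      F.y3 ^ j ∈ Subgroup.closure ({F.y, F.y2, F.y3} : Set G) := fun j =>
    ⟨pow_mem (Subgroup.subset_closure (by simp)) j, pow_mem (Subgroup.subset_closure (by simp)) j⟩
  have hfin : ∀ c₂ c₃ : SL23, (P.f0 (c₂, c₃) : G) * (d * F.y * d⁻¹) * (P.f0 (c₂, c₃) : G)⁻¹ ∈
        Subgroup.closure ({F.y, F.y2, F.y3} : Set G) →
      (P.f0 (c₂, c₃) : G) * (d * F.y3 * d⁻¹) * (P.f0 (c₂, c₃) : G)⁻¹ ∈
        Subgroup.closure ({F.y, F.y2, F.y3} : Set G) →
      ∃ g, Commute g z ∧ g * F.y2 * g⁻¹ = F.y ∧ g * F.y * g⁻¹ ∈ Subgroup.closure ({F.y, F.y2, F.y3} : Set G) ∧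
        g * F.y3 * g⁻¹ ∈ Subgroup.closure ({F.y, F.y2, F.y3} : Set G) := by
    intro c₂ c₃ m1 m2
    refine ⟨(P.f0 (c₂, c₃) : G) * d, (P.f0_comm_z _).mul_left hdz, ?_, ?_, ?_⟩
    · rw [show (P.f0 (c₂, c₃) : G) * d * F.y2 * ((P.f0 (c₂, c₃) : G) * d)⁻¹ =
        (P.f0 (c₂, c₃) : G) * (d * F.y2 * d⁻¹) * (P.f0 (c₂, c₃) : G)⁻¹ by group, hd,
        conj_eq_iff_commute.2 (P.f0_comm_y _)]
    · convert m1 using 1; group
    · convert m2 using 1; group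
  have hpart : ∀ (c₂ c₃ a : SL23), (P.f0 (c₂, c₃) : G) * P.f0 (a, 1) * (P.f0 (c₂, c₃) : G)⁻¹ =
      P.f0 (c₂, 1) * P.f0 (a, 1) * (P.f0 (c₂, 1) : G)⁻¹ ∧
      (P.f0 (c₂, c₃) : G) * P.f0 (1, a) * (P.f0 (c₂, c₃) : G)⁻¹ =
        P.f0 (1, c₃) * P.f0 (1, a) * (P.f0 (1, c₃) : G)⁻¹ := fun c₂ c₃ a => by
    simp only [← Subgroup.coe_inv, ← map_inv, ← P.f0_coe_mul]
    exact ⟨congrArg (fun p => (P.f0 p : G)) (Prod.ext rfl (by simp)),
      congrArg (fun p => (P.f0 p : G)) (Prod.ext (by simp) rfl)⟩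
  rcases h1 with ⟨h, -⟩ | ⟨-, na, rfl⟩ | ⟨-, rfl, nb⟩
  · exact absurd trivial h
  · rcases h1' with ⟨h, -⟩ | ⟨-, -, rfl⟩ | ⟨-, rfl, -⟩
    · exact absurd trivial h
    · obtain ⟨m, hm⟩ := hside ha ha' rfl rfl na hpp
      exact (hsame m (Prod.ext hm (by simp))).elim
    · refine hfin c.1 c'.2 ?_ ?_
      · rw [hx, (hpart _ _ _).1, hcj]; exact (hax _).1
      · rw [hx', (hpart _ _ _).2, hck']; exact (hax _).2
  · rcases h1' with ⟨h, -⟩ | ⟨-, -, rfl⟩ | ⟨-, rfl, -⟩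
    · exact absurd trivial h
    · refine hfin c'.1 c.2 ?_ ?_
      · rw [hx, (hpart _ _ _).2, hck]; exact (hax _).2
      · rw [hx', (hpart _ _ _).1, hcj']; exact (hax _).1
    · obtain ⟨m, hm⟩ := hside hb hb' rfl rfl nb (by
        rcases hpp with e | e
        · exact Or.inl (Prod.ext (congrArg Prod.snd e) (congrArg Prod.fst e))
        · exact Or.inr (Prod.ext (congrArg Prod.snd e) (congrArg Prod.fst e)))
      exact (hsame m (Prod.ext (by simp) hm)).elim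

end Frame

end CfsgLib.SuzThree
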