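import Mathlib.GroupTheory.Sylow
import Mathlib.Algebra.Group.Subgroup.Pointwise

/-!
Eleven lines in an elementary abelian group, permuted sharply four-transitively by its normalizer.
-/

set_option autoImplicit false

namespace CfsgLib.SuzEleven

universe u v

/-- The data of eleven lines through which `X` is moved by the normalizer of `A`. -/
structure Eleven {G : Type u} [Group G] (X A : Subgroup G) (α : Type v) where
  /-- The lines. -/
  pts : α → Subgroup G
  pts_inj : Function.Injective pts
  pts_le : ∀ a, pts a ≤ A
  card_pts : Nat.card α = 11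
  /-- Four lines. -/
  base : Fin 4 → α
  base_inj : Function.Injective base
  base_zero : pts (base 0) = X
  conj_pt : ∀ g : G, X.map (MulAut.conj g).toMonoidHom ≤ A → ∃ a, pts a = X.map (MulAut.conj g).toMonoidHom
  act : ∀ n ∈ Subgroup.normalizer (A : Set G), ∀ a, ∃ b, (pts a).map (MulAut.conj n).toMonoidHom = pts b
  trans : ∀ x : Fin 4 → α, Function.Injective x → ∃ n ∈ Subgroup.normalizer (A : Set G),
    ∀ i, (pts (x i)).map (MulAut.conj n).toMonoidHom = pts (base i)
  sharp : ∀ n ∈ Subgroup.normalizer (A : Set G),
    (∀ i, (pts (base i)).map (MulAut.conj n).toMonoidHom = pts (base i)) → n ∈ A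

end CfsgLib.SuzEleven
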