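import Cfsg.Agent.Lib.SuzEleven.Eleven
import Cfsg.Agent.Lib.Sharp.Mathieu
import Cfsg.Agent.Lib.Sporadic.M11Order.Main
import Cfsg.Agent.Lib.Golay.Simple
import Cfsg.Prelude.Def_Transfer
import Cfsg.Prelude.Def_Spor_Mathieu

/-!
From the eleven lines: the Sylow 3-subgroup and the Mathieu group of degree eleven.
-/

set_option autoImplicit false
set_option linter.style.haveILetI false
set_option maxHeartbeats 1000000
set_option linter.unusedSectionVars false

namespace CfsgLib.SuzEleven

open Cfsg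

universe u v

variable {G : Type u} [Group G]

theorem mem_normalizer_of_map_eq {Y : Subgroup G} {n : G}
    (h : Y.map (MulAut.conj n).toMonoidHom = Y) : n ∈ Subgroup.normalizer (Y : Set G) := by
  rw [Subgroup.mem_normalizer_iff]
  intro y
  constructor
  · intro hy; rw [← h]; exact ⟨y, hy, by simp⟩
  · intro hy
    rw [← h] at hy
    obtain ⟨z, hz, hzy⟩ := hy
    have : z = y := by simpa using hzy
    exact this ▸ hz

theorem map_eq_of_mem_normalizer {Y : Subgroup G} {n : G}
    (h : n ∈ Subgroup.normalizer (Y : Set G)) : Y.map (MulAut.conj n).toMonoidHom = Y := by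
  ext y
  constructor
  · rintro ⟨z, hz, rfl⟩
    simpa using (Subgroup.mem_normalizer_iff.1 h z).1 hz
  · intro hy
    refine ⟨n⁻¹ * y * n, (Subgroup.mem_normalizer_iff.1 h _).2 ?_, by simp [mul_assoc]⟩
    simpa [mul_assoc] using hy

theorem map_conj_mul (Y : Subgroup G) (m n : G) :
    Y.map (MulAut.conj (m * n)).toMonoidHom =
      (Y.map (MulAut.conj n).toMonoidHom).map (MulAut.conj m).toMonoidHom := by
  rw [Subgroup.map_map]
  congr 1
  ext y
  simp [mul_assoc]

theorem map_conj_one (Y : Subgroup G) : Y.map (MulAut.conj (1 : G)).toMonoidHom = Y :=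
  map_eq_of_mem_normalizer (one_mem _)

/-- A power of an element of odd order recovers it from its square. -/
theorem mem_of_sq_mem {H : Subgroup G} {x : G} (hx : Odd (orderOf x)) (h : x * x ∈ H) : x ∈ H := by
  obtain ⟨k, hk⟩ := hx
  have e : (x * x) ^ (k + 1) = x := by
    rw [← pow_two, ← pow_mul, show 2 * (k + 1) = orderOf x + 1 by omega, pow_succ, pow_orderOf_eq_one, one_mul]
  exact e ▸ pow_mem h (k + 1)

section

variable [Finite G] {X A : Subgroup G} {α : Type v} [Finite α] (E : Eleven X A α)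

/-- The normalizer permutes the lines. -/
@[reducible] noncomputable def lineAct : MulAction (Subgroup.normalizer (A : Set G)) α where
  smul n a := (E.act n.1 n.2 a).choose
  one_smul a := E.pts_inj (by
    show E.pts (E.act (1 : Subgroup.normalizer (A : Set G)).1 (1 : Subgroup.normalizer (A : Set G)).2 a).choose = E.pts a
    rw [← (E.act _ (1 : Subgroup.normalizer (A : Set G)).2 a).choose_spec, Subgroup.coe_one, map_conj_one])
  mul_smul m n a := E.pts_inj (by
    show E.pts (E.act (m * n).1 (m * n).2 a).choose =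
      E.pts (E.act m.1 m.2 (E.act n.1 n.2 a).choose).choose
    rw [← (E.act _ (m * n).2 a).choose_spec, ← (E.act m.1 m.2 _).choose_spec,
      ← (E.act n.1 n.2 a).choose_spec, Subgroup.coe_mul, map_conj_mul])

theorem pts_lineAct (n : Subgroup.normalizer (A : Set G)) (a : α) :
    E.pts ((lineAct E).smul n a) = (E.pts a).map (MulAut.conj (n : G)).toMonoidHom :=
  (E.act n n.2 a).choose_spec.symm

variable (hA : Cfsg.IsElementaryAbelian 3 A)
include hA

theorem fix_of_mem {n : G} (hn : n ∈ A) (a : α) : n ∈ Subgroup.normalizer (E.pts a : Set G) := by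
  refine mem_normalizer_of_map_eq (Subgroup.ext fun y => ?_)
  have hc : ∀ z ∈ E.pts a, n * z * n⁻¹ = z := fun z hz => by
    have h : n * z = z * n := congrArg Subtype.val (hA.1.is_comm.comm (⟨n, hn⟩ : A) ⟨z, E.pts_le a hz⟩)
    rw [h, mul_inv_cancel_right]
  constructor
  · rintro ⟨z, hz, rfl⟩
    simpa [hc z hz] using hz
  · intro hy
    exact ⟨y, hy, by simpa using hc y hy⟩

variable (hX : Nat.card X = 3) (hA5 : Nat.card A = 3 ^ 5) (hAc : Subgroup.centralizer (A : Set G) = A)
  (hN : Nat.card (Subgroup.normalizer (X : Set G)) = 2 * 3 * (2 ^ 7 * 3 ^ 6 * 5 * 7))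

include E hX hA5 hAc hN in
/-- The group-theoretic content. -/
theorem core :
    Cfsg.Spor.IsoM11 (Subgroup.normalizer (A : Set G) ⧸ A.subgroupOf (Subgroup.normalizer (A : Set G))) ∧
    ¬ 3 ^ 8 ∣ Nat.card G ∧
    ∃ P0 : Subgroup G, A ≤ P0 ∧ P0 ≤ Subgroup.normalizer (X : Set G) ∧ Nat.card P0 = 3 ^ 7 := by
  classical
  haveI : Fact (Nat.Prime 3) := ⟨Nat.prime_three⟩
  set N := Subgroup.normalizer (A : Set G) with hNdef
  letI : MulAction N α := lineAct E
  letI : Fintype α := Fintype.ofFinite α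
  have hpts : ∀ (n : N) (a : α), E.pts (n • a) = (E.pts a).map (MulAut.conj (n : G)).toMonoidHom :=
    pts_lineAct E
  have hfixA : ∀ (n : N), (n : G) ∈ A → ∀ a : α, n • a = a := fun n hn a => E.pts_inj (by
    rw [hpts, map_eq_of_mem_normalizer (fix_of_mem E hA hn a)])
  have hbase : ∀ n : N, (∀ i, n • E.base i = E.base i) → (n : G) ∈ A := fun n h =>
    E.sharp n n.2 fun i => by rw [← hpts, h]
  have htrans : ∀ x : Fin 4 ↪ α, ∃ n : N, ∀ i, n • x i = E.base i := fun x => by
    obtain ⟨n, hn, h⟩ := E.trans x x.injective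
    exact ⟨⟨n, hn⟩, fun i => E.pts_inj (by rw [hpts]; exact h i)⟩
  have hAn : (A.subgroupOf N).Normal := Subgroup.normal_in_normalizer
  haveI := hAn
  have hsharp : ∀ (x : Fin 4 ↪ α) (n : N), (∀ i, n • x i = x i) → (n : G) ∈ A := by
    intro x n h
    obtain ⟨m, hm⟩ := htrans x
    have h1 : m * n * m⁻¹ ∈ A.subgroupOf N := Subgroup.mem_subgroupOf.2 <| hbase (m * n * m⁻¹) fun i => by
      rw [← hm i, mul_smul, inv_smul_smul, mul_smul, h]
    have h2 := hAn.conj_mem _ h1 m⁻¹
    rw [inv_inv, mul_assoc m n, inv_mul_cancel_left, inv_mul_cancel_right] at h2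
    exact h2
  set φ := MulAction.toPermHom N α with hφ
  have hα : Fintype.card α = 11 := by rw [← Nat.card_eq_fintype_card, E.card_pts]
  obtain ⟨xb⟩ : Nonempty (Fin 4 ↪ α) := Function.Embedding.nonempty_of_card_le (by rw [Fintype.card_fin, hα]; norm_num)
  have hkerφ : φ.ker = A.subgroupOf N := by
    ext n
    constructor
    · intro h
      exact hsharp xb n fun i => Equiv.Perm.congr_fun (MonoidHom.mem_ker.1 h) (xb i)
    · intro h
      exact MonoidHom.mem_ker.2 (Equiv.ext fun a => hfixA n h a)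
  haveI : MulAction.IsMultiplyPretransitive φ.range α 4 := by
    rw [MulAction.isMultiplyPretransitive_iff]
    intro x y
    obtain ⟨m, hm⟩ := htrans x
    obtain ⟨k, hk⟩ := htrans y
    refine ⟨⟨φ (k⁻¹ * m), ⟨_, rfl⟩⟩, DFunLike.ext _ _ fun i => ?_⟩
    show (k⁻¹ * m) • x i = y i
    rw [mul_smul, hm, ← hk i, inv_smul_smul]
  have hM := CfsgLib.Sharp.Mathieu.isM11 φ.range hα fun x => by
    rw [Subgroup.eq_bot_iff_forall]
    rintro ⟨_, n, rfl⟩ hn
    refine Subtype.ext ?_
    have hmem : n ∈ φ.ker := by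
      rw [hkerφ]
      exact hsharp x n fun i => DFunLike.congr_fun (MulAction.mem_stabilizer_iff.1 hn) i
    exact MonoidHom.mem_ker.1 hmem
  haveI : IsSimpleGroup φ.range := hM.1
  haveI : IsSimpleGroup Spor.M11 := CfsgLib.Golay.isSimple_M11
  haveI : Finite Spor.M11 := Nat.finite_of_card_ne_zero (by rw [CfsgLib.Golay.card_M11]; norm_num)
  refine ⟨?_, ?_⟩
  · obtain ⟨e⟩ := CfsgLib.M11Order.nonempty_mulEquiv hM.2 CfsgLib.Golay.card_M11
    exact ⟨((QuotientGroup.quotientMulEquivOfEq hkerφ.symm).trans (QuotientGroup.quotientKerEquivRange φ)).trans e⟩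
  -- the stabiliser of the base line
  have hcardN : Nat.card N = 3 ^ 5 * 7920 := by
    rw [← Subgroup.card_mul_index φ.ker, Subgroup.index_ker, hM.2, hkerφ,
      Nat.card_congr (Subgroup.subgroupOfEquivOfLe Subgroup.le_normalizer).toEquiv, hA5]
  haveI : MulAction.IsPretransitive N α := ⟨fun a b => by
    obtain ⟨x, hx⟩ : ∃ x : Fin 4 ↪ α, x 0 = a :=
      ⟨xb.trans (Equiv.swap (xb 0) a).toEmbedding, by simp⟩
    obtain ⟨y, hy⟩ : ∃ y : Fin 4 ↪ α, y 0 = b :=
      ⟨xb.trans (Equiv.swap (xb 0) b).toEmbedding, by simp⟩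
    obtain ⟨m, hm⟩ := htrans x
    obtain ⟨k, hk⟩ := htrans y
    exact ⟨k⁻¹ * m, by rw [mul_smul, ← hx, hm, ← hk 0, inv_smul_smul, hy]⟩⟩
  set St := MulAction.stabilizer N (E.base 0)
  have hSt : Nat.card St = 3 ^ 5 * 720 := by
    have h := Subgroup.card_mul_index St
    rw [MulAction.index_stabilizer_of_transitive (G := N), E.card_pts, hcardN] at h
    omega
  obtain ⟨S⟩ : Nonempty (Sylow 3 St) := inferInstance
  set P0 : Subgroup G := ((S : Subgroup St).map St.subtype).map N.subtype with hP0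
  have hP0mem : ∀ g ∈ P0, ∃ n : N, (n : G) = g ∧ n • E.base 0 = E.base 0 := by
    rintro _ ⟨_, ⟨s, hs, rfl⟩, rfl⟩
    exact ⟨(s : N), rfl, s.2⟩
  have hP0X : P0 ≤ Subgroup.normalizer (X : Set G) := fun g hg => by
    obtain ⟨n, rfl, hn⟩ := hP0mem g hg
    refine mem_normalizer_of_map_eq ?_
    rw [← E.base_zero, ← hpts, hn]
  have hP0c : Nat.card P0 = 3 ^ 7 := by
    rw [hP0, Subgroup.card_map_of_injective N.subtype_injective,
      Subgroup.card_map_of_injective St.subtype_injective, S.card_eq_multiplicity, hSt]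
    congr 1
    rw [show (3 : ℕ) ^ 5 * 720 = 3 ^ 7 * 80 by norm_num, Nat.factorization_mul (by norm_num) (by norm_num),
      Finsupp.add_apply, Nat.factorization_pow, Finsupp.smul_apply, Nat.prime_three.factorization_self,
      Nat.factorization_eq_zero_of_not_dvd (by norm_num : ¬ 3 ∣ 80)]
    rfl
  have hP0A : A ≤ P0 := by
    intro a ha
    let aN : N := ⟨a, Subgroup.le_normalizer ha⟩
    have haSt : aN ∈ St := hfixA aN ha _
    let AS : Subgroup St := (A.subgroupOf N).subgroupOf St
    have hASp : IsPGroup 3 AS := by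
      intro x
      refine ⟨1, Subtype.ext (Subtype.ext (Subtype.ext ?_))⟩
      simp only [pow_one, SubmonoidClass.coe_pow, Subgroup.coe_one]
      exact hA.2 _ x.2
    obtain ⟨T, hT⟩ := hASp.exists_le_sylow
    obtain ⟨c, hc⟩ := MulAction.exists_smul_eq St T S
    have hn : AS.Normal := Subgroup.normal_subgroupOf
    have : AS ≤ (S : Subgroup St) := by
      rw [← hc, Sylow.coe_subgroup_smul]
      intro x hx
      rw [Subgroup.mem_pointwise_smul_iff_inv_smul_mem]
      exact hT (by simpa [MulAut.conj_inv_apply] using hn.conj_mem x hx c⁻¹)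
    exact ⟨aN, ⟨⟨aN, haSt⟩, this ha, rfl⟩, rfl⟩
  refine ⟨?_, P0, hP0A, hP0X, hP0c⟩
  -- `P0` is a full Sylow subgroup
  intro hdvd
  haveI : (P0.comap (Subgroup.normalizer (P0 : Set G)).subtype).Normal := Subgroup.normal_in_normalizer
  have h3 := Sylow.prime_dvd_card_quotient_normalizer (p := 3) (n := 7) hdvd hP0c
  obtain ⟨q, hq⟩ := exists_prime_orderOf_dvd_card' 3 h3
  obtain ⟨⟨x, hxn⟩, rfl⟩ := QuotientGroup.mk_surjective q
  have hxP : x ∉ P0 := fun h => by
    rw [(QuotientGroup.eq_one_iff _).2 (show (⟨x, hxn⟩ : Subgroup.normalizer (P0 : Set G)) ∈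
      P0.comap (Subgroup.normalizer (P0 : Set G)).subtype from h), orderOf_one] at hq
    norm_num at hq
  have hx3 : x ^ 3 ∈ P0 := by
    have h := pow_orderOf_eq_one
      (QuotientGroup.mk (s := P0.comap (Subgroup.normalizer (P0 : Set G)).subtype) (⟨x, hxn⟩ : Subgroup.normalizer (P0 : Set G)))
    rw [hq, ← QuotientGroup.mk_pow, QuotientGroup.eq_one_iff] at h
    exact h
  have hP0p : IsPGroup 3 P0 := IsPGroup.of_card hP0c
  obtain ⟨k, hk⟩ := hP0p ⟨x ^ 3, hx3⟩
  have hxpow : x ^ (3 ^ (k + 1)) = 1 := by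
    rw [pow_succ', pow_mul]
    exact congrArg Subtype.val hk
  have hodd : Odd (orderOf x) := Odd.of_dvd_nat (Odd.pow (by decide)) (orderOf_dvd_of_pow_eq_one hxpow)
  have hxX : x ∉ Subgroup.normalizer (X : Set G) := fun h => by
    have hp : IsPGroup 3 (Subgroup.zpowers x) := by
      obtain ⟨j, -, hj⟩ := (Nat.dvd_prime_pow Nat.prime_three).1 (orderOf_dvd_of_pow_eq_one hxpow)
      exact IsPGroup.of_card (n := j) (by rw [Nat.card_zpowers, hj])
    obtain ⟨j, hj⟩ := IsPGroup.iff_card.1 (hp.to_sup_of_normal_right' hP0p (Subgroup.zpowers_le.2 hxn))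
    have hle : Subgroup.zpowers x ⊔ P0 ≤ Subgroup.normalizer (X : Set G) :=
      sup_le (Subgroup.zpowers_le.2 h) hP0X
    have hd := Subgroup.card_dvd_of_le hle
    have hj7 : j ≤ 7 := by
      by_contra! hlt
      have h8 := (pow_dvd_pow 3 hlt).trans (hj ▸ hd)
      rw [hN] at h8
      norm_num at h8
    have heq : P0 = Subgroup.zpowers x ⊔ P0 := Subgroup.eq_of_le_of_card_ge le_sup_right (by
      rw [hj, hP0c]; exact Nat.pow_le_pow_right (by norm_num) hj7)
    exact hxP (heq ▸ Subgroup.mem_sup_left (Subgroup.mem_zpowers x))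
  -- conjugates of `X` by powers of `x` are lines fixed by `P0`
  have hline : ∀ y ∈ Subgroup.normalizer (P0 : Set G), ∃ b : α, E.pts b = X.map (MulAut.conj y).toMonoidHom ∧
      ∀ n : N, (n : G) ∈ P0 → n • b = b := by
    intro y hy
    set Y := X.map (MulAut.conj y).toMonoidHom with hY
    have hnorm : ∀ g ∈ P0, g ∈ Subgroup.normalizer (Y : Set G) := fun g hg => by
      refine mem_normalizer_of_map_eq ?_
      have hg' : y⁻¹ * g * y ∈ P0 := by
        simpa [mul_assoc] using (Subgroup.mem_normalizer_iff.1 (inv_mem hy) g).1 hg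
      rw [hY, ← map_conj_mul, show g * y = y * (y⁻¹ * g * y) by group, map_conj_mul,
        map_eq_of_mem_normalizer (hP0X hg')]
    have hY3 : Nat.card Y = 3 := by
      rw [hY, Subgroup.card_map_of_injective (MulEquiv.injective _), hX]
    have hcen : ∀ g ∈ A, ∀ w ∈ Y, g * w * g⁻¹ = w := by
      intro g hg w hw
      have hgY : g * w * g⁻¹ ∈ Y := (Subgroup.mem_normalizer_iff.1 (hnorm g (hP0A hg)) w).1 hw
      have hw3 : w ^ 3 = 1 := by
        have h := pow_card_eq_one' (x := (⟨w, hw⟩ : Y))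
        rw [hY3] at h
        exact congrArg Subtype.val h
      have hg3 : g ^ 3 = 1 := hA.2 g hg
      by_cases hw1 : w = 1
      · simp [hw1]
      have hgen : Subgroup.zpowers w = Y := Subgroup.eq_of_le_of_card_ge (Subgroup.zpowers_le.2 hw) (by
        rw [Nat.card_zpowers, hY3, orderOf_eq_prime hw3 hw1])
      obtain ⟨i, hi⟩ := ((isOfFinOrder_of_finite w).mem_powers_iff_mem_zpowers).2 (hgen.symm ▸ hgY)
      have hi' : g * w * g⁻¹ = w ^ (i % 3) := by
        show g * w * g⁻¹ = _
        rw [← hi]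
        exact pow_eq_pow_mod i hw3
      have hi3 : i % 3 < 3 := Nat.mod_lt _ (by norm_num)
      interval_cases hj : i % 3
      · rw [pow_zero, conj_eq_one_iff] at hi'
        exact absurd hi' hw1
      · rwa [pow_one] at hi'
      · exfalso
        have e1 : g * (g * w * g⁻¹) * g⁻¹ = (g * w * g⁻¹) ^ 2 := by rw [conj_pow, ← hi']
        have e2 : g * (g * w * g⁻¹) * g⁻¹ = w := by
          rw [e1, hi', ← pow_mul, pow_succ, hw3, one_mul]
        have e3 : g ^ 3 * w * (g ^ 3)⁻¹ = g * (g * (g * w * g⁻¹) * g⁻¹) * g⁻¹ := by simp [pow_succ, mul_assoc]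
        rw [hg3, e2, hi', one_mul, inv_one, mul_one] at e3
        exact hw1 (mul_eq_left.1 (show w * w = w by rw [← pow_two, ← e3]))
    have hYA : Y ≤ A := fun w hw => hAc ▸ Subgroup.mem_centralizer_iff.2 fun g hg =>
      mul_inv_eq_iff_eq_mul.1 (hcen g hg w hw)
    obtain ⟨b, hb⟩ := E.conj_pt y hYA
    exact ⟨b, hb, fun n hn => E.pts_inj (by rw [hpts, hb, map_eq_of_mem_normalizer (hnorm _ hn)])⟩
  obtain ⟨b, hb, hbfix⟩ := hline x hxn
  obtain ⟨c, hc, hcfix⟩ := hline (x * x) (mul_mem hxn hxn)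
  have hb0 : b ≠ E.base 0 := fun h => hxX (mem_normalizer_of_map_eq (by rw [← hb, h, E.base_zero]))
  have hc0 : c ≠ E.base 0 := fun h => hxX (mem_of_sq_mem hodd
    (mem_normalizer_of_map_eq (by rw [← hc, h, E.base_zero])))
  have hbc : b ≠ c := fun h => hxX (by
    refine mem_normalizer_of_map_eq (Subgroup.map_injective (f := (MulAut.conj x).toMonoidHom) (MulEquiv.injective (MulAut.conj x)) ?_)
    show (X.map (MulAut.conj x).toMonoidHom).map (MulAut.conj x).toMonoidHom = X.map (MulAut.conj x).toMonoidHom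
    rw [← map_conj_mul, ← hc, ← hb, h])
  -- three fixed lines
  have h0fix : ∀ n : N, (n : G) ∈ P0 → n • E.base 0 = E.base 0 := fun n hn => by
    obtain ⟨n', h', hn'⟩ := hP0mem _ hn
    rwa [Subtype.ext h'.symm]
  let three : Finset α := {E.base 0, b, c}
  have hthree : three.card = 3 := Finset.card_eq_three.2 ⟨_, _, _, hb0.symm, hc0.symm, hbc, rfl⟩
  obtain ⟨d, hd⟩ : ∃ d : α, d ∉ three := by
    by_contra! h
    have := Finset.card_le_card (s := Finset.univ) (fun a _ => h a)
    rw [Finset.card_univ, hα, hthree] at this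
    omega
  set PN : Subgroup N := P0.subgroupOf N
  have hP0N : P0 ≤ N := fun g hg => by obtain ⟨n, rfl, -⟩ := hP0mem g hg; exact n.2
  have hPNc : Nat.card PN = 3 ^ 7 := by
    rw [Nat.card_congr (Subgroup.subgroupOfEquivOfLe hP0N).toEquiv, hP0c]
  have hfix3 : ∀ (n : PN) (a : α), a ∈ three → (n : N) • a = a := fun n a ha => by
    simp only [three, Finset.mem_insert, Finset.mem_singleton] at ha
    rcases ha with rfl | rfl | rfl
    exacts [h0fix n n.2, hbfix n n.2, hcfix n n.2]
  let xd : Fin 4 ↪ α := ⟨![E.base 0, b, c, d], by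
    simp only [three, Finset.mem_insert, Finset.mem_singleton, not_or] at hd
    obtain ⟨hd0, hdb, hdc⟩ := hd
    intro i j hij
    fin_cases i <;> fin_cases j <;>
      first
      | rfl
      | exact absurd hij hb0 | exact absurd hij.symm hb0 | exact absurd hij hc0 | exact absurd hij.symm hc0
      | exact absurd hij hbc | exact absurd hij.symm hbc | exact absurd hij hd0 | exact absurd hij.symm hd0
      | exact absurd hij hdb | exact absurd hij.symm hdb | exact absurd hij hdc | exact absurd hij.symm hdc⟩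
  have hle : (MulAction.stabilizer PN d).index ≤ 8 := by
    rw [MulAction.index_stabilizer]
    refine (Set.ncard_le_ncard (t := ((Finset.univ \ three : Finset α) : Set α)) ?_ (Set.toFinite _)).trans ?_
    · rintro _ ⟨n, rfl⟩
      simp only [Finset.coe_sdiff, Finset.coe_univ, Set.mem_sdiff, Set.mem_univ, true_and, Finset.mem_coe]
      intro h
      refine hd ?_
      have h' := hfix3 n⁻¹ _ h
      have : ((n⁻¹ : PN) : N) • ((n : N) • d) = (n : N) • d := h'
      rw [Subgroup.coe_inv, inv_smul_smul] at this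
      exact this ▸ h
    · rw [Set.ncard_coe_finset, Finset.card_sdiff_of_subset (Finset.subset_univ _), Finset.card_univ, hα, hthree]
  have hst : Nat.card (MulAction.stabilizer PN d) ≤ 3 ^ 5 := by
    rw [← hA5]
    refine Nat.card_le_card_of_injective (fun n => (⟨((n : PN) : N), hsharp xd _ fun i => ?_⟩ : A)) ?_
    · fin_cases i
      · exact hfix3 n (E.base 0) (by simp [three])
      · exact hfix3 n (b) (by simp [three])
      · exact hfix3 n (c) (by simp [three])
      · exact n.2
    · exact fun n m h => Subtype.ext (Subtype.ext (Subtype.ext (congrArg Subtype.val h :)))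
  have := Subgroup.card_mul_index (MulAction.stabilizer PN d)
  rw [hPNc] at this
  norm_num at hst this
  nlinarith

end

/-- The conclusion of the 3-local step. -/
theorem finish [Finite G] {X A : Subgroup G} {α : Type v} [Finite α] (E : Eleven X A α) (hX : Nat.card X = 3)
    (hA : Cfsg.IsElementaryAbelian 3 A) (hA5 : Nat.card A = 3 ^ 5) (hAc : Subgroup.centralizer (A : Set G) = A)
    (hN : Nat.card (Subgroup.normalizer (X : Set G)) = 2 * 3 * (2 ^ 7 * 3 ^ 6 * 5 * 7))
    (P : Sylow 3 (Subgroup.normalizer (X : Set G))) :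
    ¬ 3 ∣ ((P : Subgroup (Subgroup.normalizer (X : Set G))).map
        (Subgroup.subtype (Subgroup.normalizer (X : Set G)))).index ∧
    ∃ A' : Subgroup G, A' ≤ (P : Subgroup (Subgroup.normalizer (X : Set G))).map
        (Subgroup.subtype (Subgroup.normalizer (X : Set G))) ∧
      Cfsg.IsElementaryAbelian 3 A' ∧ Nat.card A' = 3 ^ 5 ∧ Subgroup.centralizer (A' : Set G) = A' ∧
      ∃ _ : (A'.subgroupOf (Subgroup.normalizer (A' : Set G))).Normal,
        Cfsg.Spor.IsoM11 (↥(Subgroup.normalizer (A' : Set G)) ⧸ A'.subgroupOf (Subgroup.normalizer (A' : Set G))) := by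
  classical
  haveI : Fact (Nat.Prime 3) := ⟨Nat.prime_three⟩
  obtain ⟨⟨e⟩, h8, P0, hAP, hPX, hP0⟩ := core E hA hX hA5 hAc hN
  have hPc : Nat.card (P : Subgroup (Subgroup.normalizer (X : Set G))) = 3 ^ 7 := by
    rw [P.card_eq_multiplicity, hN]
    congr 1
    rw [show (2 : ℕ) * 3 * (2 ^ 7 * 3 ^ 6 * 5 * 7) = 3 ^ 7 * 8960 by norm_num,
      Nat.factorization_mul (by norm_num) (by norm_num), Finsupp.add_apply, Nat.factorization_pow,
      Finsupp.smul_apply, Nat.prime_three.factorization_self,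
      Nat.factorization_eq_zero_of_not_dvd (by norm_num : ¬ 3 ∣ 8960)]
    rfl
  refine ⟨fun hd => h8 ?_, ?_⟩
  · have h := Subgroup.card_mul_index ((P : Subgroup (Subgroup.normalizer (X : Set G))).map (Subgroup.normalizer (X : Set G)).subtype)
    rw [Subgroup.card_map_of_injective (Subgroup.normalizer (X : Set G)).subtype_injective, hPc] at h
    rw [← h, pow_succ]
    exact Nat.mul_dvd_mul_left _ hd
  have hP0' : IsPGroup 3 (P0.subgroupOf (Subgroup.normalizer (X : Set G))) :=
    (IsPGroup.of_card hP0).of_equiv (Subgroup.subgroupOfEquivOfLe hPX).symm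
  obtain ⟨T, hT⟩ := hP0'.exists_le_sylow
  obtain ⟨g, hg⟩ := MulAction.exists_smul_eq (Subgroup.normalizer (X : Set G)) T P
  set γ : G ≃* G := MulAut.conj (g : G) with hγ
  have hle : A.map γ.toMonoidHom ≤ (P : Subgroup (Subgroup.normalizer (X : Set G))).map (Subgroup.normalizer (X : Set G)).subtype := by
    rintro _ ⟨a, ha, rfl⟩
    refine ⟨g * ⟨a, hPX (hAP ha)⟩ * g⁻¹, ?_, rfl⟩
    rw [← hg, SetLike.mem_coe, Sylow.coe_subgroup_smul]
    exact Subgroup.smul_mem_pointwise_smul _ (MulAut.conj g) _ (hT (hAP ha))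
  have hnorm : (Subgroup.normalizer (A : Set G)).map γ.toMonoidHom =
      Subgroup.normalizer ((A.map γ.toMonoidHom : Subgroup G) : Set G) := Subgroup.map_equiv_normalizer_eq A γ
  refine ⟨A.map γ.toMonoidHom, hle, ⟨?_, ?_⟩, ?_, ?_, Subgroup.normal_in_normalizer, ?_⟩
  · refine ⟨⟨fun x y => Subtype.ext ?_⟩⟩
    obtain ⟨x', hx', hx⟩ := x.2
    obtain ⟨y', hy', hy⟩ := y.2
    have h : x' * y' = y' * x' := congrArg Subtype.val (hA.1.is_comm.comm (⟨x', hx'⟩ : A) ⟨y', hy'⟩)
    show (x : G) * y = y * x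
    rw [← hx, ← hy, ← map_mul, ← map_mul, h]
  · rintro _ ⟨a, ha, rfl⟩
    rw [← map_pow, hA.2 a ha, map_one]
  · rw [Subgroup.card_map_of_injective γ.injective, hA5]
  · conv_rhs => rw [← hAc]
    ext w
    simp only [Subgroup.mem_map_equiv, Subgroup.mem_centralizer_iff]
    constructor
    · intro h a ha
      apply γ.injective
      rw [map_mul, map_mul, γ.apply_symm_apply]
      exact h _ ⟨a, ha, rfl⟩
    · rintro h _ ⟨a, ha, rfl⟩
      apply γ.symm.injective
      simp only [map_mul, MulEquiv.coe_toMonoidHom, γ.symm_apply_apply]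
      exact h a ha
  · haveI : (A.subgroupOf (Subgroup.normalizer (A : Set G))).Normal := Subgroup.normal_in_normalizer
    haveI : ((A.map γ.toMonoidHom).subgroupOf
        (Subgroup.normalizer ((A.map γ.toMonoidHom : Subgroup G) : Set G))).Normal := Subgroup.normal_in_normalizer
    let ψ : Subgroup.normalizer (A : Set G) ≃* Subgroup.normalizer ((A.map γ.toMonoidHom : Subgroup G) : Set G) :=
      (γ.subgroupMap _).trans (MulEquiv.subgroupCongr hnorm)
    have hψ : (A.subgroupOf (Subgroup.normalizer (A : Set G))).map ψ.toMonoidHom =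
        (A.map γ.toMonoidHom).subgroupOf (Subgroup.normalizer ((A.map γ.toMonoidHom : Subgroup G) : Set G)) := by
      ext w
      constructor
      · rintro ⟨a, ha, rfl⟩
        exact ⟨a, ha, rfl⟩
      · rintro ⟨a, ha, hwa⟩
        exact ⟨⟨a, Subgroup.le_normalizer ha⟩, ha, Subtype.ext hwa⟩
    exact ⟨(QuotientGroup.congr _ _ ψ hψ).symm.trans e⟩

end CfsgLib.SuzEleven
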