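import Cfsg.Agent.Lib.U43Type.Rels
import Cfsg.Agent.Lib.SuzEleven.Model

/-!
Elements fixing both axes of the group of order 81.
-/

set_option autoImplicit false
set_option linter.style.haveILetI false

namespace CfsgLib.SuzEleven

open CfsgLib.U43Type

universe u

variable {H : Type u} [Group H] [Finite H] {U : CfsgLib.U43Type.Frame H}

/-- An element that sends both axes to themselves up to sign acts on the group of order 81 as a power of `T`. -/
theorem fix_pair (B : U.EBase) {h : H} (ha : h * U.xa * h⁻¹ = U.xa ∨ h * U.xa * h⁻¹ = U.xa⁻¹)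
    (hb : h * U.xb * h⁻¹ = U.xb ∨ h * U.xb * h⁻¹ = U.xb⁻¹) :
    ∃ m : Fin 4, B.Acts h (CfsgLib.U43Type.Frame.EBase.φT^[(m : ℕ)]) ∧ (m = 0 → U.IsE h) := by
  -- the image of `z` centralises both axes
  set t := h * U.D.z * h⁻¹ with ht
  have htx : ∀ x : H, Commute U.D.z x → (h * x * h⁻¹ = x ∨ h * x * h⁻¹ = x⁻¹) → Commute t x := by
    intro x hzx hx
    have h1 : Commute t (h * x * h⁻¹) := hzx.map (MulAut.conj h).toMonoidHom
    rcases hx with e | e <;> rw [e] at h1
    · exact h1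
    · simpa using h1.inv_right
  have hza : Commute U.D.z U.xa := (U.XX_z U.xa_mem).symm
  have hzb : Commute U.D.z U.xb := (U.XX_z U.xb_mem).symm
  have hta : Commute t U.xa := htx _ hza ha
  have htb : Commute t U.xb := htx _ hzb hb
  have htt : t * t = 1 := by
    rw [ht, show h * U.D.z * h⁻¹ * (h * U.D.z * h⁻¹) = h * (U.D.z * U.D.z) * h⁻¹ by group, U.D.z_sq]
    group
  have ht1 : t ≠ 1 := fun e => U.D.z_ne (by rwa [ht, mul_inv_eq_one, mul_eq_left] at e)
  -- the product of `z` and `t` lies in the odd part and is inverted by `z`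
  set e := U.D.z * t with he
  have hea : Commute e U.xa := hza.mul_left hta
  have heb : Commute e U.xb := hzb.mul_left htb
  have hze : U.D.z * e * U.D.z = e⁻¹ := by
    rw [he, mul_inv_rev, inv_eq_of_mul_eq_one_right htt, U.z_inv, ← mul_assoc U.D.z U.D.z t, U.D.z_sq, one_mul]
  have hodd : Odd (orderOf e) := by
    rw [← Nat.not_even_iff_odd]
    rintro ⟨n, hn⟩
    have hpos := orderOf_pos e
    set w := e ^ n with hw
    have hww : w * w = 1 := by rw [hw, ← pow_add, ← hn, pow_orderOf_eq_one]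
    have hw1 : w ≠ 1 := fun h0 => pow_ne_one_of_lt_orderOf (by omega) (by omega) h0
    have hwz : Commute w U.D.z := by
      have h1 : U.D.z * w * U.D.z = w := by
        calc U.D.z * w * U.D.z = U.D.z * w * U.D.z⁻¹ := by rw [U.z_inv]
          _ = (U.D.z * e * U.D.z⁻¹) ^ n := by rw [hw, conj_pow]
          _ = (e⁻¹) ^ n := by rw [U.z_inv, hze]
          _ = w := by rw [inv_pow]; exact inv_eq_of_mul_eq_one_right hww
      show w * U.D.z = U.D.z * w
      conv_lhs => rw [← h1]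
      rw [mul_assoc, U.D.z_sq, mul_one]
    rcases U.invol_xa hwz (hea.pow_left n) hww with h0 | h0
    · exact hw1 h0
    have h2 : Commute U.D.z t := by
      have h3 : Commute U.D.z e := h0 ▸ (Commute.pow_self e n)
      have h4 : Commute U.D.z (U.D.z⁻¹ * e) := (Commute.refl U.D.z).inv_right.mul_right h3
      rwa [he, inv_mul_cancel_left] at h4
    rcases U.invol_xa h2.symm hta htt with h5 | h5
    · exact ht1 h5
    · rw [h5] at he
      rw [he, U.D.z_sq, orderOf_one] at hn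
      omega
  have heE : U.IsE e := ⟨hea, heb, hodd⟩
  obtain ⟨k, hk⟩ := hodd
  set f := e ^ (k + 1) with hf
  have hff : f * f = e := by
    rw [hf, ← pow_add, show k + 1 + (k + 1) = orderOf e + 1 by omega, pow_succ, pow_orderOf_eq_one, one_mul]
  have hfE : U.IsE f := by
    refine ⟨hea.pow_left _, heb.pow_left _, Odd.of_dvd_nat heE.2.2 ?_⟩
    exact orderOf_pow_dvd _
  have hfz : U.D.z * f = f⁻¹ * U.D.z := by
    have h1 : U.D.z * f * U.D.z⁻¹ = f⁻¹ := by rw [hf, ← conj_pow, U.z_inv, hze, inv_pow]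
    calc U.D.z * f = U.D.z * f * U.D.z⁻¹ * U.D.z := by group
      _ = _ := by rw [h1]
  -- so `f * h` centralises `z`
  have hcz : Commute (f * h) U.D.z := by
    have h1 : f * h * U.D.z = f * t * h := by rw [ht]; group
    show f * h * U.D.z = U.D.z * (f * h)
    have ht' : t = U.D.z * e := by rw [he, ← mul_assoc, U.D.z_sq, one_mul]
    have hfz' : f * U.D.z = U.D.z * f⁻¹ := by
      calc f * U.D.z = f * (U.D.z * f) * f⁻¹ := by group
        _ = _ := by rw [hfz]; group
    have hft : f * t = U.D.z * f := by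
      calc f * t = f * U.D.z * e := by rw [ht', mul_assoc]
        _ = U.D.z * (f⁻¹ * (f * f)) := by rw [hfz', hff, mul_assoc]
        _ = _ := by rw [inv_mul_cancel_left]
    rw [h1, hft, mul_assoc]
  have hfx : ∀ x : H, Commute f x → f * x * f⁻¹ = x := fun x hx => by rw [hx.eq, mul_inv_cancel_right]
  have hca : f * h * U.xa * (f * h)⁻¹ = U.xa ∨ f * h * U.xa * (f * h)⁻¹ = U.xa⁻¹ := by
    rw [show f * h * U.xa * (f * h)⁻¹ = f * (h * U.xa * h⁻¹) * f⁻¹ by group]
    rcases ha with e0 | e0 <;> rw [e0]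
    · exact Or.inl (hfx _ hfE.1)
    · exact Or.inr (hfx _ hfE.1.inv_right)
  have hcb : f * h * U.xb * (f * h)⁻¹ ∈ U.XX := by
    rw [show f * h * U.xb * (f * h)⁻¹ = f * (h * U.xb * h⁻¹) * f⁻¹ by group]
    rcases hb with e0 | e0 <;> rw [e0]
    · rw [hfx _ hfE.2.1]; exact U.xb_mem
    · rw [hfx _ hfE.2.1.inv_right]; exact inv_mem U.xb_mem
  obtain ⟨x, i, ε, hx, hc⟩ := U.norm_XX hcz
    (by rcases hca with e0 | e0 <;> rw [e0]; exacts [U.xa_mem, inv_mem U.xa_mem]) hcb
  -- the sides are not swapped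
  have hside : i = 0 ∨ i = 1 := by
    have hz1 : Commute (if ε then U.D.z else 1) U.xa := by
      cases ε
      · exact Commute.one_left _
      · exact hza
    have h1 : f * h * U.xa * (f * h)⁻¹ = x * U.D.f (Frame.act i (SL23.xx, 1)) * x⁻¹ := by
      rw [← U.cos_conj, hc]
      calc x * U.cos i * (if ε then U.D.z else 1) * U.xa * (x * U.cos i * (if ε then U.D.z else 1))⁻¹
          = x * (U.cos i * ((if ε then U.D.z else 1) * U.xa * (if ε then U.D.z else 1)⁻¹) * (U.cos i)⁻¹) * x⁻¹ := by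
            group
        _ = _ := by rw [hz1.eq, mul_inv_cancel_right]; rfl
    by_contra hi
    have hi' : i = 2 ∨ i = 3 := (show ∀ j : Fin 4, ¬ (j = 0 ∨ j = 1) → j = 2 ∨ j = 3 by decide) i hi
    obtain ⟨a, b, rfl⟩ := U.mem_XX.1 hx
    have key : ∀ a b : Fin 3, ∀ i : Fin 4, i = 2 ∨ i = 3 → ∀ p : Pr, (p = (SL23.xx, 1) ∨ p = (SL23.xx, 1)⁻¹) →
        ¬ Equ (((SL23.xx ^ (a : ℕ), SL23.xx ^ (b : ℕ)) : Pr) * Frame.act i (SL23.xx, 1) *
          (SL23.xx ^ (a : ℕ), SL23.xx ^ (b : ℕ))⁻¹) p := by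
      intro a b i hi p hp
      rcases hi with rfl | rfl <;> rcases hp with rfl | rfl <;> revert a b <;> decide +kernel
    rw [Frame.xel, ← map_inv, ← map_mul, ← map_mul] at h1
    rcases hca with e0 | e0
    · exact key a b i hi' _ (Or.inl rfl) (U.D.eq_iff.1 (h1.symm.trans e0))
    · refine key a b i hi' _ (Or.inr rfl) (U.D.eq_iff.1 ?_)
      rw [map_inv]
      exact h1.symm.trans e0
  obtain ⟨m, hm, hm0⟩ : ∃ m : Fin 4, U.cos i * (if ε then U.D.z else 1) = U.T ^ (m : ℕ) ∧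
      (m = 0 → U.cos i * (if ε then U.D.z else 1) = 1) := by
    rcases hside with rfl | rfl <;> cases ε
    · exact ⟨0, by simp [Frame.cos], by simp [Frame.cos]⟩
    · refine ⟨2, ?_, fun h0 => absurd h0 (by decide)⟩
      simp [Frame.cos, pow_two, U.T_sq]
    · exact ⟨1, by simp [Frame.cos], fun h0 => absurd h0 (by decide)⟩
    · refine ⟨3, ?_, fun h0 => absurd h0 (by decide)⟩
      show U.T * U.D.z = U.T ^ 3
      rw [pow_succ, pow_two, U.T_sq, U.T_z.eq]
  have hd : U.IsE (f⁻¹ * x) := U.isE_mul (U.isE_inv hfE) (U.isE_XX hx)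
  have hh : h = f⁻¹ * x * U.T ^ (m : ℕ) := by
    rw [← hm, mul_assoc f⁻¹ x, ← mul_assoc x, ← hc, inv_mul_cancel_left]
  refine ⟨m, fun v => ?_, fun h0 => ?_⟩
  · have hT := B.acts_pow B.acts_T (m : ℕ) v
    rw [hh, show f⁻¹ * x * U.T ^ (m : ℕ) * B.elv v * (f⁻¹ * x * U.T ^ (m : ℕ))⁻¹ =
      f⁻¹ * x * (U.T ^ (m : ℕ) * B.elv v * (U.T ^ (m : ℕ))⁻¹) * (f⁻¹ * x)⁻¹ by group, hT]
    obtain ⟨a, b, c, d, hv⟩ : ∃ a b c d, B.elv (Frame.EBase.φT^[(m : ℕ)] v) = B.el a b c d := ⟨_, _, _, _, rfl⟩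
    rw [hv, (B.isE_comm hd (B.isE_el a b c d)).eq, mul_inv_cancel_right]
  · rw [hh, h0]
    simpa using hd

end CfsgLib.SuzEleven
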