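import Cfsg.Agent.Lib.SuzEleven.ASub

/-!
The axes and the conjugates of `y` inside the group of order 243.
-/

set_option autoImplicit false
set_option linter.style.haveILetI false
set_option maxRecDepth 10000
set_option synthInstance.maxSize 20000
set_option synthInstance.maxHeartbeats 400000
set_option maxHeartbeats 400000

namespace CfsgLib.SuzThree

open CfsgLib.SuzType CfsgLib.Classical.Quad
open CfsgLib.U43Type (SL23 Pr Qs Equ)
open CfsgLib.U43Type.Frame.EBase (φu φs φT)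
open CfsgLib.SuzEleven

theorem xx_facts : ¬ Equ (SL23.xx, 1) 1 ∧ ∀ j : Fin 3, ¬ Equ (1, SL23.xx) (SL23.xx ^ (j : ℕ), 1) := by
  decide +kernel

theorem fin3_cases : ∀ j : Fin 3, j = 0 ∨ j = 1 ∨ j = 2 := by decide

theorem pow_cases {G : Type*} [Group G] {t x : G} (h3 : t ^ 3 = 1) (hx : x ∈ Subgroup.zpowers t) :
    x = 1 ∨ x = t ∨ x = t⁻¹ := by
  obtain ⟨m, rfl⟩ := Subgroup.mem_zpowers_iff.1 hx
  have h : t ^ m = t ^ (m % 3) := by
    conv_lhs => rw [← Int.mul_ediv_add_emod m 3, zpow_add, zpow_mul,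
      show t ^ (3 : ℤ) = 1 from (zpow_natCast t 3).trans h3, one_zpow, one_mul]
  rw [h]
  rcases (by omega : m % 3 = 0 ∨ m % 3 = 1 ∨ m % 3 = 2) with e | e | e <;> rw [e]
  · exact Or.inl (zpow_zero t)
  · exact Or.inr (Or.inl (zpow_one t))
  · exact Or.inr (Or.inr (eq_inv_of_mul_eq_one_left (by rw [← zpow_add_one]; exact (zpow_natCast t 3).trans h3)))

theorem mem_normalizer_of_maps {G : Type*} [Group G] {A : Subgroup G} [Finite A] {g : G}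
    (h : ∀ x ∈ A, g * x * g⁻¹ ∈ A) : g ∈ Subgroup.normalizer (A : Set G) := by
  have he : A.map (MulAut.conj g).toMonoidHom = A := by
    refine Subgroup.eq_of_le_of_card_ge ?_ (ge_of_eq (Subgroup.card_map_of_injective (MulAut.conj g).injective))
    rintro _ ⟨x, hx, rfl⟩
    exact h x hx
  refine Subgroup.mem_normalizer_iff.2 fun x => ⟨h x, fun hx => ?_⟩
  rw [← he] at hx
  obtain ⟨x', hx', e⟩ := hx
  rwa [← (MulAut.conj g).injective e]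

universe u

variable {G : Type u} [Group G]

namespace Frame

variable {S : Sys G} {z : G} {F : Frame S z}

/-- The two axes of the frame of the quotient. -/
structure Setting.Axes (W : F.Setting) where
  ta : G
  tb : G
  /-- The lift of the interchange. -/
  σ : ↥(Subgroup.centralizer ({F.y} : Set G))
  a : SL23
  b : SL23
  ha : a ^ 3 = 1 ∧ a ≠ 1
  hb : b ^ 3 = 1 ∧ b ≠ 1
  sides : (ta = W.P.f0 (a, 1) ∧ tb = W.P.f0 (1, b)) ∨ (ta = W.P.f0 (1, b) ∧ tb = W.P.f0 (a, 1))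
  Ca : ∃ hx : ta ∈ Subgroup.centralizer ({F.y} : Set G), F.qq ⟨ta, hx⟩ = W.U.xa
  Cb : ∃ hx : tb ∈ Subgroup.centralizer ({F.y} : Set G), F.qq ⟨tb, hx⟩ = W.U.xb
  hσ : F.qq σ = W.U.s
  swap : (σ : G) * ta * (σ : G)⁻¹ = tb

theorem Setting.exists_axes [Finite G] (W : F.Setting) : Nonempty W.Axes := by
  obtain ⟨ea, eb, -, -⟩ := W.qq_gen
  obtain ⟨hza, h3a⟩ := W.XX_small (ea ▸ W.U.xa_mem)
  obtain ⟨-, -, n, a, b, ha, hb, -, hq⟩ := W.small hza h3a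
  rw [ea] at hq
  obtain ⟨D, hD, hDf⟩ := W.P.hyp F.qq F.qq_surj F.qq_ker
  have hfq : ∀ p, D.f p = F.qq (W.P.f0 p) := fun p => by rw [hDf]; rfl
  have hyb3 : W.U.yb ^ 3 = 1 := by
    rw [CfsgLib.U43Type.Frame.yb, ← map_pow, side_not_comm.2.2.1, map_one]
  have hb3 : W.U.xb ^ 3 = 1 := W.U.XX_cube W.U.xb_mem
  have hboth : ¬ (a ≠ 1 ∧ b ≠ 1) := by
    rintro ⟨na, nb⟩
    have key : ∀ {h : ↥(Subgroup.centralizer ({F.y} : Set G)) ⧸ F.N0}, Commute h W.U.D.z → h ^ 3 = 1 →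
        Commute h W.U.xa → ∃ i k : Fin 3, h = F.qq (W.P.f0 (a ^ (i : ℕ), b ^ (k : ℕ))) := by
      intro h hz h3 hc
      obtain ⟨x, rfl⟩ := F.qq_surj h
      obtain ⟨-, -, -, a', b', ha', hb', -, e⟩ := W.small hz h3
      have hf : D.f ((a, b) * (a', b')) = D.f ((a', b') * (a, b)) := by
        rw [map_mul, map_mul, hfq, hfq, ← e, ← hq, hc.eq]
      obtain ⟨c1, c2⟩ : a * a' = a' * a ∧ b * b' = b' * b := by
        rcases D.eq_iff.1 hf with e2 | e2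
        · exact ⟨congrArg Prod.fst e2, congrArg Prod.snd e2⟩
        · exact absurd (congrArg Prod.fst e2) (sl_cube_comm a ha a' ha')
      obtain ⟨i, rfl⟩ := sl_comm a ha na a' ha' c1
      obtain ⟨k, rfl⟩ := sl_comm b hb nb b' hb' c2
      exact ⟨i, k, e⟩
    have hyx : Commute W.U.yb W.U.xa := by
      show _ * _ = _ * _
      rw [CfsgLib.U43Type.Frame.yb, CfsgLib.U43Type.Frame.xa, ← map_mul, ← map_mul, side_not_comm.2.1]
    obtain ⟨i, k, e1⟩ := key (h := W.U.yb) (W.U.D.f_comm _) hyb3 hyx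
    obtain ⟨i', k', e2⟩ := key (h := W.U.xb) (W.U.D.f_comm _) hb3 (W.U.XX_comm W.U.xb_mem W.U.xa_mem)
    refine side_not_comm.1 (W.U.D.eq_iff.1 ?_)
    rw [map_mul, map_mul]
    show W.U.yb * W.U.xb = W.U.xb * W.U.yb
    rw [e1, e2, ← map_mul, ← map_mul, ← map_mul, ← map_mul]
    exact congrArg (fun p => F.qq (W.P.f0 p)) (Prod.ext (((Commute.refl a).pow_pow _ _).eq)
      (((Commute.refl b).pow_pow _ _).eq))
  have hxa : ¬ (a = 1 ∧ b = 1) := by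
    rintro ⟨rfl, rfl⟩
    refine xx_facts.1 (W.U.D.eq_iff.1 ?_)
    rw [show ((1 : SL23), (1 : SL23)) = (1 : Pr) from rfl, map_one, map_one] at hq
    rw [map_one]
    exact hq
  obtain ⟨ta, htadef⟩ : ∃ t : ↥(Subgroup.centralizer ({F.y} : Set G)), t = W.P.f0 (a, b) := ⟨_, rfl⟩
  have hta : F.qq ta = W.U.xa := by rw [htadef, hq]
  obtain ⟨σ, hσ⟩ := F.qq_surj W.U.s
  have htb : F.qq (σ * ta * σ⁻¹) = W.U.xb := by
    rw [map_mul, map_mul, map_inv, hσ, hta]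
    exact W.U.s_xa.1
  obtain ⟨hzb, h3b⟩ := W.XX_small (htb ▸ W.U.xb_mem)
  obtain ⟨-, -, m, a', b', ha', hb', ex, hq'⟩ := W.small hzb h3b
  rw [htb] at hq'
  have hk : F.K3 (ta : G) := by
    have := (W.P.k3_iff ha hb 0).2 (by
      by_cases h : a = 1
      · exact Or.inr (Or.inr ⟨rfl, h, fun h' => hxa ⟨h, h'⟩⟩)
      · exact Or.inr (Or.inl ⟨rfl, h, by by_contra h'; exact hboth ⟨h, h'⟩⟩))
    rw [Fin.val_zero, pow_zero, one_mul] at this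
    rwa [htadef]
  have hk' : F.K3 ((σ : G) * ta * (σ : G)⁻¹) := F.k3_conj _ hk
  rw [Subgroup.coe_mul, Subgroup.coe_mul, Subgroup.coe_inv] at ex
  rw [ex] at hk'
  have hx' : ¬ (a' = 1 ∧ b' = 1) := by
    rintro ⟨rfl, rfl⟩
    rw [show ((1 : SL23), (1 : SL23)) = (1 : Pr) from rfl, map_one, map_one] at hq'
    have : ¬ Equ (1, SL23.xx) 1 := by decide +kernel
    exact this (W.U.D.eq_iff.1 (hq'.trans (map_one W.U.D.f).symm))
  have hone := (W.P.k3_iff ha' hb' m).1 hk'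
  obtain ⟨rfl, hside⟩ : m = 0 ∧ ((a' ≠ 1 ∧ b' = 1) ∨ (a' = 1 ∧ b' ≠ 1)) := by
    rcases hone with ⟨-, h1, h2⟩ | ⟨h0, h1, h2⟩ | ⟨h0, h1, h2⟩
    · exact absurd ⟨h1, h2⟩ hx'
    · exact ⟨h0, Or.inl ⟨h1, h2⟩⟩
    · exact ⟨h0, Or.inr ⟨h1, h2⟩⟩
  rw [Fin.val_zero, pow_zero, one_mul] at ex
  have hcom : a * a' = a' * a ∧ b * b' = b' * b := by
    have hf : D.f ((a, b) * (a', b')) = D.f ((a', b') * (a, b)) := by
      rw [map_mul, map_mul, hfq, hfq, ← hq, ← hq', (W.U.XX_comm W.U.xa_mem W.U.xb_mem).eq]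
    rcases D.eq_iff.1 hf with e2 | e2
    · exact ⟨congrArg Prod.fst e2, congrArg Prod.snd e2⟩
    · exact absurd (congrArg Prod.fst e2) (sl_cube_comm a ha a' ha')
  have hno : ∀ j : Fin 3, (a', b') = ((a, b) : Pr) ^ (j : ℕ) → False := fun j e => by
    refine xx_facts.2 j (W.U.D.eq_iff.1 ?_)
    have hp : ((SL23.xx ^ (j : ℕ), 1) : Pr) = (SL23.xx, 1) ^ (j : ℕ) := Prod.ext rfl (one_pow _).symm
    rw [hp, map_pow]
    show W.U.xb = W.U.xa ^ (j : ℕ)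
    rw [hq', hq, e, map_pow, map_pow]
  by_cases hA : a = 1
  · subst hA
    have nb : b ≠ 1 := fun h => hxa ⟨rfl, h⟩
    rcases hside with ⟨na', hb1⟩ | ⟨ha1, nb'⟩
    · subst hb1
      exact ⟨⟨(ta : G), (σ : G) * ta * (σ : G)⁻¹, σ, a', b, ⟨ha', na'⟩, ⟨hb, nb⟩,
        Or.inr ⟨by rw [htadef], by rw [ex]⟩, ⟨ta.2, hta⟩, ⟨(σ * ta * σ⁻¹).2, htb⟩, hσ, rfl⟩⟩
    · subst ha1
      obtain ⟨j, hj⟩ := sl_comm b hb nb b' hb' hcom.2
      exact (hno j (Prod.ext (by simp) hj)).elim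
  · obtain rfl : b = 1 := by by_contra h; exact hboth ⟨hA, h⟩
    rcases hside with ⟨-, hb1⟩ | ⟨ha1, nb'⟩
    · subst hb1
      obtain ⟨j, hj⟩ := sl_comm a ha hA a' ha' hcom.1
      exact (hno j (Prod.ext hj (by simp))).elim
    · subst ha1
      exact ⟨⟨(ta : G), (σ : G) * ta * (σ : G)⁻¹, σ, a, b', ⟨ha, hA⟩, ⟨hb', nb'⟩,
        Or.inl ⟨by rw [htadef], by rw [ex]⟩, ⟨ta.2, hta⟩, ⟨(σ * ta * σ⁻¹).2, htb⟩, hσ, rfl⟩⟩

namespace Setting

variable (W : F.Setting) [Finite G]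

/-- An element has given coordinates. -/
def Co (x : G) (e : V) : Prop :=
  ∃ hx : x ∈ Subgroup.centralizer ({F.y} : Set G), F.qq ⟨x, hx⟩ = W.B.elv e

variable {W}

theorem Co.mem {x : G} {e : V} (h : W.Co x e) : x ∈ W.A :=
  h.elim fun hx he => W.mem_A.2 ⟨hx, he ▸ W.B.isE_el _ _ _ _⟩

theorem Co.unique {x : G} {e d : V} (h : W.Co x e) (h' : W.Co x d) : e = d := by
  obtain ⟨hx, he⟩ := h
  obtain ⟨_, hd⟩ := h'
  obtain ⟨h1, h2, h3, h4⟩ := W.B.el_inj (he.symm.trans hd)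
  exact Prod.ext h1 (Prod.ext h2 (Prod.ext h3 h4))

omit [Finite G] in
theorem elv_zero : W.B.elv 0 = 1 := by
  show W.U.xel 0 0 * (W.B.v ^ 0 * W.B.w ^ 0) = 1
  rw [pow_zero, pow_zero, mul_one, mul_one, CfsgLib.U43Type.Frame.xel]
  simp only [Fin.val_zero, pow_zero]
  exact map_one _

theorem Co.mul {x y : G} {e d : V} (h : W.Co x e) (h' : W.Co y d) : W.Co (x * y) (e + d) := by
  obtain ⟨hx, he⟩ := h
  obtain ⟨hy, hd⟩ := h'
  refine ⟨mul_mem hx hy, ?_⟩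
  rw [show (⟨x * y, mul_mem hx hy⟩ : ↥(Subgroup.centralizer ({F.y} : Set G))) = ⟨x, hx⟩ * ⟨y, hy⟩ from rfl,
    map_mul, he, hd]
  exact W.B.el_mul _ _ _ _ _ _ _ _

theorem Co.inv {x : G} {e : V} (h : W.Co x e) : W.Co x⁻¹ (-e) := by
  obtain ⟨hx, he⟩ := h
  refine ⟨inv_mem hx, ?_⟩
  rw [show (⟨x⁻¹, inv_mem hx⟩ : ↥(Subgroup.centralizer ({F.y} : Set G))) = ⟨x, hx⟩⁻¹ from rfl, map_inv, he]
  exact W.B.el_inv _ _ _ _

theorem co_zero {t : G} (ht : t ∈ Subgroup.zpowers F.y) : W.Co t 0 := by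
  obtain ⟨m, rfl⟩ := Subgroup.mem_zpowers_iff.1 ht
  refine ⟨Subgroup.mem_centralizer_singleton_iff.2 ((Commute.refl F.y).zpow_left m).eq, ?_⟩
  rw [elv_zero]
  exact (F.qq_ker _).2 ht

theorem Co.pow {x : G} {e : V} (h : W.Co x e) : ∀ n : ℕ, W.Co (x ^ n) (n • e)
  | 0 => by rw [pow_zero, zero_smul]; exact co_zero (one_mem _)
  | n + 1 => by rw [pow_succ, succ_nsmul]; exact (Co.pow h n).mul h

theorem exists_co {x : G} (hx : x ∈ W.A) : ∃ e, W.Co x e :=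
  (W.coord hx).elim fun hxC h => h.elim fun e he => ⟨e, hxC, he⟩

theorem Co.eq_zero {x : G} (h : W.Co x 0) : x ∈ Subgroup.zpowers F.y := by
  obtain ⟨hx, he⟩ := h
  rw [elv_zero] at he
  exact (F.qq_ker _).1 he

theorem Co.conj {x : G} {e : V} (h : W.Co x e) {σ : ↥(Subgroup.centralizer ({F.y} : Set G))} {φ : V → V}
    (hσ : W.B.Acts (F.qq σ) φ) : W.Co ((σ : G) * x * (σ : G)⁻¹) (φ e) := by
  obtain ⟨hx, he⟩ := h
  refine ⟨mul_mem (mul_mem σ.2 hx) (inv_mem σ.2), ?_⟩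
  rw [show (⟨(σ : G) * x * (σ : G)⁻¹, mul_mem (mul_mem σ.2 hx) (inv_mem σ.2)⟩ :
      ↥(Subgroup.centralizer ({F.y} : Set G))) = σ * ⟨x, hx⟩ * σ⁻¹ from rfl, map_mul, map_mul, map_inv, he]
  exact hσ e

theorem mem_N_of_acts {σ : ↥(Subgroup.centralizer ({F.y} : Set G))} {φ : V → V} (hσ : W.B.Acts (F.qq σ) φ) :
    (σ : G) ∈ Subgroup.normalizer (W.A : Set G) :=
  mem_normalizer_of_maps fun _ hx => (exists_co hx).elim fun _ he => (he.conj hσ).mem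

theorem exists_word (w : List (Fin 3)) :
    ∃ σ : ↥(Subgroup.centralizer ({F.y} : Set G)), W.B.Acts (F.qq σ) (ap w) := by
  induction w with
  | nil => exact ⟨1, fun e => by rw [map_one, one_mul, inv_one, mul_one]; rfl⟩
  | cons a w ih =>
    obtain ⟨σ, hσ⟩ := ih
    obtain ⟨h, hh⟩ : ∃ h, W.B.Acts h (let3 a) := by
      fin_cases a
      exacts [⟨_, W.B.acts_u⟩, ⟨_, W.B.acts_s⟩, ⟨_, W.B.acts_T⟩]
    refine ⟨lift h * σ, ?_⟩
    rw [map_mul, qq_lift]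
    exact W.B.acts_mul hh hσ

theorem Qf_ap : ∀ (w : List (Fin 3)) (e : V), Qf (ap w e) = Qf e
  | [], _ => rfl
  | a :: w, e => by rw [ap_cons, ap_Qf, Qf_ap w e]

namespace Axes

variable (X : W.Axes)

theorem co_a : W.Co X.ta ea := by
  obtain ⟨hx, he⟩ := X.Ca
  exact ⟨hx, he.trans W.B.xa_el⟩

theorem co_b : W.Co X.tb eb := by
  obtain ⟨hx, he⟩ := X.Cb
  exact ⟨hx, he.trans W.B.xb_el⟩

theorem mix (m i j : Fin 3) :
    F.K3 (F.y ^ (m : ℕ) * (X.ta ^ (i : ℕ) * X.tb ^ (j : ℕ))) ↔ One (m = 0) (i = 0) (j = 0) := by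
  have hpow : ∀ {r : SL23}, r ^ 3 = 1 ∧ r ≠ 1 → ∀ i : Fin 3, (r ^ (i : ℕ)) ^ 3 = 1 ∧ (r ^ (i : ℕ) = 1 ↔ i = 0) :=
    fun h i => ⟨by rw [← pow_mul, mul_comm, pow_mul, h.1, one_pow],
      sl_pow _ h.1 h.2 i, fun e => by rw [e, Fin.val_zero, pow_zero]⟩
  have hf : ∀ (p q : Pr) (i j : ℕ), (W.P.f0 p : G) ^ i * (W.P.f0 q : G) ^ j = W.P.f0 (p ^ i * q ^ j) := fun p q i j => by
    rw [W.P.f0_coe_mul, map_pow, map_pow, SubmonoidClass.coe_pow, SubmonoidClass.coe_pow]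
  rcases X.sides with ⟨e, e'⟩ | ⟨e, e'⟩ <;> rw [e, e', hf]
  · rw [show ((X.a, 1) : Pr) ^ (i : ℕ) * (1, X.b) ^ (j : ℕ) = (X.a ^ (i : ℕ), X.b ^ (j : ℕ)) from
      Prod.ext (by simp) (by simp), W.P.k3_iff (hpow X.ha i).1 (hpow X.hb j).1,
      (hpow X.ha i).2, (hpow X.hb j).2]
  · rw [show ((1, X.b) : Pr) ^ (i : ℕ) * (X.a, 1) ^ (j : ℕ) = (X.a ^ (j : ℕ), X.b ^ (i : ℕ)) from
      Prod.ext (by simp) (by simp), W.P.k3_iff (hpow X.ha j).1 (hpow X.hb i).1,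
      (hpow X.ha j).2, (hpow X.hb i).2, One, One]
    tauto

theorem k3_a : F.K3 X.ta := by simpa using (X.mix 0 1 0).2 (Or.inr (Or.inl ⟨rfl, by decide, rfl⟩))

theorem k3_b : F.K3 X.tb := by simpa using (X.mix 0 0 1).2 (Or.inr (Or.inr ⟨rfl, rfl, by decide⟩))

include X in
/-- The conjugates of `y` outside its cyclic subgroup have singular coordinates. -/
theorem normal_form {x : G} {e : V} (hk : F.K3 x) (he : W.Co x e) (he0 : e ≠ 0) :
    Qf e = 0 ∧ ∀ x', F.K3 x' → W.Co x' e → x' = x := by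
  obtain ⟨w, -, hw⟩ := to_plane e
  obtain ⟨σ, hσ⟩ := exists_word (W := W) w
  obtain ⟨⟨i, j, kl⟩, hd⟩ : ∃ d, ap w e = d := ⟨_, rfl⟩
  obtain rfl : kl = (0, 0) := by rw [hd] at hw; exact hw
  have key : ∀ x, F.K3 x → W.Co x e → i * j = 0 ∧ (σ : G) * x * (σ : G)⁻¹ = X.ta ^ (i : ℕ) * X.tb ^ (j : ℕ) := by
    intro x hk he
    have h1 := he.conj hσ
    rw [hd] at h1
    have h2 := (X.co_a.pow (i : ℕ)).mul (X.co_b.pow (j : ℕ))
    rw [(by decide +kernel : ∀ i j : Fin 3, (i : ℕ) • ea + (j : ℕ) • eb = (i, j, 0, 0)) i j] at h2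
    have h3 := h1.mul h2.inv
    rw [add_neg_cancel] at h3
    obtain ⟨t, ht, hxt⟩ : ∃ t ∈ Subgroup.zpowers F.y,
        (σ : G) * x * (σ : G)⁻¹ = t * (X.ta ^ (i : ℕ) * X.tb ^ (j : ℕ)) :=
      ⟨_, h3.eq_zero, (inv_mul_cancel_right _ _).symm⟩
    obtain ⟨m, rfl⟩ : ∃ m : Fin 3, t = F.y ^ (m : ℕ) := by
      rcases pow_cases F.cube ht with e | e | e
      · exact ⟨0, by rw [e, Fin.val_zero, pow_zero]⟩
      · exact ⟨1, by rw [e]; exact (pow_one _).symm⟩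
      · exact ⟨2, by rw [e]; exact inv_eq_of_mul_eq_one_right (by rw [← pow_succ']; exact F.cube)⟩
    have hk2 := F.k3_conj (σ : G) hk
    rw [hxt] at hk2
    have hij : ¬ (i = 0 ∧ j = 0) := by
      rintro ⟨rfl, rfl⟩
      refine he0 (he.unique (co_zero ?_))
      have h5 := h1.eq_zero
      rwa [show x = (σ : G)⁻¹ * ((σ : G) * x * (σ : G)⁻¹) * (σ : G) by group,
        mul_assoc (σ : G)⁻¹, ← (comm_zpow h5 σ).eq, inv_mul_cancel_left]
    rcases (X.mix m i j).1 hk2 with ⟨-, a, b⟩ | ⟨rfl, a, rfl⟩ | ⟨rfl, rfl, b⟩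
    · exact absurd ⟨a, b⟩ hij
    · exact ⟨mul_zero i, by rw [hxt, Fin.val_zero, pow_zero, one_mul]⟩
    · exact ⟨zero_mul j, by rw [hxt]; simp⟩
  refine ⟨?_, fun x' hk' he' => ?_⟩
  · rw [← Qf_ap w e, hd, Qf]
    simp [(key x hk he).1]
  · exact mul_left_cancel (mul_right_cancel ((key x' hk' he').2.trans (key x hk he).2.symm))

include X in
/-- A conjugate of `y` over a singular vector. -/
theorem exists_line {e : V} (he0 : e ≠ 0) (hq : Qf e = 0) : ∃ x, F.K3 x ∧ W.Co x e := by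
  obtain ⟨w, -, hw⟩ := to_ea e he0 hq
  obtain ⟨σ, hσ⟩ := exists_word (W := W) w
  obtain ⟨t, ht, htC⟩ : ∃ t, F.K3 t ∧ W.Co t (ap w e) := by
    rcases hw with h | h <;> rw [h]
    · exact ⟨X.ta, X.k3_a, X.co_a⟩
    · exact ⟨X.ta⁻¹, F.k3_inv X.k3_a, X.co_a.inv⟩
  obtain ⟨hx, hq'⟩ := htC
  refine ⟨(σ : G)⁻¹ * t * (σ : G), ?_, mul_mem (mul_mem (inv_mem σ.2) hx) σ.2, ?_⟩
  · have := F.k3_conj (σ : G)⁻¹ ht
    rwa [inv_inv] at this
  · rw [show (⟨(σ : G)⁻¹ * t * (σ : G), mul_mem (mul_mem (inv_mem σ.2) hx) σ.2⟩ :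
        ↥(Subgroup.centralizer ({F.y} : Set G))) = σ⁻¹ * ⟨t, hx⟩ * σ from rfl, map_mul, map_mul, map_inv, hq',
      ← hσ e]
    group

theorem mem_A_iff {x : G} : x ∈ W.A ↔
    Commute x F.y ∧ Commute x X.ta ∧ Commute x X.tb ∧ Odd (orderOf x) := by
  constructor
  · intro h
    exact ⟨W.A_comm h W.y_mem_A, W.A_comm h X.co_a.mem, W.A_comm h X.co_b.mem,
      Odd.of_dvd_nat (by norm_num : Odd 3) (orderOf_dvd_of_pow_eq_one (W.A_cube h))⟩
  · rintro ⟨hy, ha, hb, ho⟩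
    have hx : x ∈ Subgroup.centralizer ({F.y} : Set G) := Subgroup.mem_centralizer_singleton_iff.2 hy.eq
    refine W.mem_A.2 ⟨hx, ?_, ?_, ?_⟩
    · obtain ⟨h, e⟩ := X.Ca
      rw [← e]
      show _ * _ = _ * _
      rw [← map_mul, ← map_mul]
      exact congrArg F.qq (Subtype.ext ha.eq)
    · obtain ⟨h, e⟩ := X.Cb
      rw [← e]
      show _ * _ = _ * _
      rw [← map_mul, ← map_mul]
      exact congrArg F.qq (Subtype.ext hb.eq)
    · refine Odd.of_dvd_nat ?_ (orderOf_map_dvd F.qq ⟨x, hx⟩)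
      rwa [← Subgroup.orderOf_coe]

/-- The group generated by the three axes. -/
def Ax : Subgroup G := Subgroup.closure {F.y, X.ta, X.tb}

theorem mem_N_of_axes {g : G} (h1 : g * F.y * g⁻¹ ∈ X.Ax) (h2 : g * X.ta * g⁻¹ ∈ X.Ax)
    (h3 : g * X.tb * g⁻¹ ∈ X.Ax) : g ∈ Subgroup.normalizer (W.A : Set G) := by
  have hle : X.Ax.map (MulAut.conj g).toMonoidHom ≤ X.Ax := by
    rw [Ax, MonoidHom.map_closure, Subgroup.closure_le]
    rintro _ ⟨r, hr, rfl⟩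
    rcases hr with rfl | rfl | rfl
    exacts [h1, h2, h3]
  have heq : X.Ax.map (MulAut.conj g).toMonoidHom = X.Ax :=
    Subgroup.eq_of_le_of_card_ge hle (ge_of_eq (Subgroup.card_map_of_injective (MulAut.conj g).injective))
  refine mem_normalizer_of_maps fun x hx => ?_
  obtain ⟨a, b, c, d⟩ := X.mem_A_iff.1 hx
  have hcA : ∀ r ∈ X.Ax, Commute x r := fun r hr => by
    have : X.Ax ≤ Subgroup.centralizer ({x} : Set G) := by
      rw [Ax, Subgroup.closure_le]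
      rintro r (rfl | rfl | rfl)
      exacts [Subgroup.mem_centralizer_singleton_iff.2 a.symm.eq, Subgroup.mem_centralizer_singleton_iff.2 b.symm.eq,
        Subgroup.mem_centralizer_singleton_iff.2 c.symm.eq]
    exact (Subgroup.mem_centralizer_singleton_iff.1 (this hr) : Commute r x).symm
  have hc : ∀ r ∈ X.Ax, Commute (g * x * g⁻¹) r := fun r hr => by
    rw [← heq] at hr
    obtain ⟨r', hr', rfl⟩ := hr
    exact (hcA r' hr').map (MulAut.conj g).toMonoidHom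
  refine X.mem_A_iff.2 ⟨hc _ (Subgroup.subset_closure (by simp)), hc _ (Subgroup.subset_closure (by simp)),
    hc _ (Subgroup.subset_closure (by simp)), ?_⟩
  have := orderOf_injective (MulAut.conj g).toMonoidHom (MulAut.conj g).injective x
  simp only [MulEquiv.coe_toMonoidHom, MulAut.conj_apply] at this
  rwa [this]

/-- An element carrying the axes onto those of the frame. -/
theorem exists_w : ∃ w, Commute w F.y ∧ Commute w z ∧ ∃ j k : Fin 3, j ≠ 0 ∧ k ≠ 0 ∧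
    ((w * X.ta * w⁻¹ = F.y2 ^ (j : ℕ) ∧ w * X.tb * w⁻¹ = F.y3 ^ (k : ℕ)) ∨
      (w * X.ta * w⁻¹ = F.y3 ^ (k : ℕ) ∧ w * X.tb * w⁻¹ = F.y2 ^ (j : ℕ))) := by
  obtain ⟨c, j, k, -, -, hj, hk, hcj, hck⟩ := W.P.normalise X.ha.1 X.hb.1
  refine ⟨W.P.f0 c, W.P.f0_comm_y c, W.P.f0_comm_z c, j, k, fun h => X.ha.2 (hj.2 h), fun h => X.hb.2 (hk.2 h), ?_⟩
  have h1 : (W.P.f0 c : G) * W.P.f0 (X.a, 1) * (W.P.f0 c : G)⁻¹ = F.y2 ^ (j : ℕ) := by
    rw [← hcj]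
    simp only [← Subgroup.coe_inv, ← map_inv, ← W.P.f0_coe_mul]
    exact congrArg (fun p => (W.P.f0 p : G)) (Prod.ext rfl (by simp))
  have h2 : (W.P.f0 c : G) * W.P.f0 (1, X.b) * (W.P.f0 c : G)⁻¹ = F.y3 ^ (k : ℕ) := by
    rw [← hck]
    simp only [← Subgroup.coe_inv, ← map_inv, ← W.P.f0_coe_mul]
    exact congrArg (fun p => (W.P.f0 p : G)) (Prod.ext (by simp) rfl)
  rcases X.sides with ⟨e, e'⟩ | ⟨e, e'⟩ <;> rw [e, e']
  · exact Or.inl ⟨h1, h2⟩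
  · exact Or.inr ⟨h2, h1⟩

end Axes

end Setting

end Frame

end CfsgLib.SuzThree
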