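import Cfsg.Agent.Lib.SuzEleven.Lines

/-!
The motions of the eleven lines.
-/

set_option autoImplicit false
set_option linter.style.haveILetI false
set_option maxRecDepth 10000
set_option synthInstance.maxSize 20000
set_option synthInstance.maxHeartbeats 400000
set_option maxHeartbeats 400000

namespace CfsgLib.SuzThree

open CfsgLib.SuzType CfsgLib.Classical.Quad
open CfsgLib.U43Type (SL23 Pr)
open CfsgLib.U43Type.Frame.EBase (φu φs φT)
open CfsgLib.SuzEleven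

theorem pow_self {G : Type*} [Group G] {t : G} (h3 : t ^ 3 = 1) {j : Fin 3} (hj : j ≠ 0) :
    (t ^ (j : ℕ)) ^ (j : ℕ) = t := by
  rw [← pow_mul, pow_eq_pow_mod _ h3, (by decide : ∀ j : Fin 3, j ≠ 0 → (j : ℕ) * j % 3 = 1) j hj, pow_one]

universe u

variable {G : Type u} [Group G]

namespace Frame.Setting.Axes

variable {S : Sys G} {z : G} {F : Frame S z} {W : F.Setting} (X : W.Axes) [Finite G]

/-- The element over a point. -/
noncomputable def rep : Option SP → G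
  | none => F.y
  | some e => Classical.choose (X.exists_line (norm_facts.1 _ e.2.2) e.2.1)

/-- The coordinates of a point. -/
def crd : Option SP → V
  | none => 0
  | some e => e.1

theorem rep_spec : ∀ a : Option SP, F.K3 (X.rep a) ∧ W.Co (X.rep a) (crd a)
  | none => ⟨F.k3_self, co_zero (Subgroup.mem_zpowers _)⟩
  | some e => Classical.choose_spec (X.exists_line (norm_facts.1 _ e.2.2) e.2.1)

theorem rep_cube (a : Option SP) : X.rep a ^ 3 = 1 := W.A_cube (X.rep_spec a).2.mem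

theorem k3_ne {x : G} (h : F.K3 x) : x ≠ 1 := fun e => by
  obtain ⟨g, hg⟩ := isConj_iff.1 h
  rw [e] at hg
  exact F.y_ne (conj_eq_one_iff.1 hg)

/-- The lines. -/
noncomputable def pts (a : Option SP) : Subgroup G := Subgroup.zpowers (X.rep a)

theorem pts_le (a : Option SP) : X.pts a ≤ W.A := Subgroup.zpowers_le.2 (X.rep_spec a).2.mem

include X in
theorem crd_ne (e : SP) : (e : V) ≠ 0 := norm_facts.1 _ e.2.2

theorem pts_of_co {x : G} (hk : F.K3 x) {e : SP} {d : V} (hd : W.Co x d) (hpm : Pm d e) :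
    Subgroup.zpowers x = X.pts (some e) := by
  obtain ⟨k1, c1⟩ := X.rep_spec (some e)
  obtain ⟨-, hu⟩ := X.normal_form k1 c1 (X.crd_ne e)
  rcases hpm with rfl | rfl
  · rw [pts, hu x hk hd]
  · have := hu x⁻¹ (F.k3_inv hk) (by have := hd.inv; rwa [neg_neg] at this)
    rw [pts, ← this, Subgroup.zpowers_inv]

theorem zpowers_y {x : G} (hk : F.K3 x) (hx : x ∈ Subgroup.zpowers F.y) :
    Subgroup.zpowers x = Subgroup.zpowers F.y := by
  rcases pow_cases F.cube hx with e | e | e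
  · exact absurd e (k3_ne hk)
  · rw [e]
  · rw [e, Subgroup.zpowers_inv]

/-- Every conjugate of `y` in the group generates one of the lines. -/
theorem exists_pt {x : G} (hk : F.K3 x) (hx : x ∈ W.A) : ∃ a, Subgroup.zpowers x = X.pts a := by
  obtain ⟨e, he⟩ := exists_co hx
  by_cases he0 : e = 0
  · subst he0
    exact ⟨none, zpowers_y hk he.eq_zero⟩
  obtain ⟨hq, -⟩ := X.normal_form hk he he0
  rcases norm_facts.2.2.1 e he0 with hn | hn
  · exact ⟨some ⟨e, hq, hn⟩, X.pts_of_co hk he (Or.inl rfl)⟩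
  · exact ⟨some ⟨-e, (norm_facts.2.2.2 e).trans hq, hn⟩, X.pts_of_co hk he (Or.inr (neg_neg e).symm)⟩

theorem pts_inj : Function.Injective X.pts := by
  intro a b h
  have ha : X.rep a ∈ X.pts b := h ▸ Subgroup.mem_zpowers _
  obtain ⟨k1, c1⟩ := X.rep_spec a
  obtain ⟨-, c2⟩ := X.rep_spec b
  have hc : crd a = crd b ∨ crd a = -crd b := by
    rcases pow_cases (X.rep_cube b) ha with e | e | e
    · exact absurd e (k3_ne k1)
    · exact Or.inl ((e ▸ c1).unique c2)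
    · exact Or.inr ((e ▸ c1).unique c2.inv)
  match a, b with
  | none, none => rfl
  | none, some e =>
    rcases hc with h | h
    · exact absurd h.symm (X.crd_ne e)
    · exact absurd (neg_eq_zero.1 h.symm) (X.crd_ne e)
  | some e, none =>
    rcases hc with h | h
    · exact absurd h (X.crd_ne e)
    · exact absurd (h.trans neg_zero) (X.crd_ne e)
  | some e, some e' => exact congrArg some (Subtype.ext (norm_facts.2.1 _ _ e.2.2 e'.2.2 hc))

/-- Conjugation by `n` sends one line to another. -/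
def Maps (n : G) (a b : Option SP) : Prop :=
  n ∈ Subgroup.normalizer (W.A : Set G) ∧ (X.pts a).map (MulAut.conj n).toMonoidHom = X.pts b

variable {X}

theorem map_pts (n : G) (a : Option SP) :
    (X.pts a).map (MulAut.conj n).toMonoidHom = Subgroup.zpowers (n * X.rep a * n⁻¹) := by
  rw [pts, MonoidHom.map_zpowers]; rfl

theorem maps_exists {n : G} (hn : n ∈ Subgroup.normalizer (W.A : Set G)) (a : Option SP) :
    ∃ b, X.Maps n a b := by
  obtain ⟨b, hb⟩ := X.exists_pt (F.k3_conj n (X.rep_spec a).1)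
    ((Subgroup.mem_normalizer_iff.1 hn _).1 (X.rep_spec a).2.mem)
  exact ⟨b, hn, (map_pts n a).trans hb⟩

theorem Maps.comp {m n : G} {a b c : Option SP} (h1 : X.Maps n a b) (h2 : X.Maps m b c) : X.Maps (m * n) a c := by
  refine ⟨mul_mem h2.1 h1.1, ?_⟩
  rw [← h2.2, ← h1.2, Subgroup.map_map]
  congr 1
  ext x
  simp [mul_assoc]

theorem Maps.inj {n : G} {a a' b : Option SP} (h1 : X.Maps n a b) (h2 : X.Maps n a' b) : a = a' :=
  X.pts_inj (Subgroup.map_injective (f := (MulAut.conj n).toMonoidHom) (MulAut.conj n).injective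
    (h1.2.trans h2.2.symm))

theorem Maps.of_co {n : G} (hn : n ∈ Subgroup.normalizer (W.A : Set G)) {a : Option SP} {e : SP} {d : V}
    (hd : W.Co (n * X.rep a * n⁻¹) d) (hpm : Pm d e) : X.Maps n a (some e) :=
  ⟨hn, (map_pts n a).trans (X.pts_of_co (F.k3_conj n (X.rep_spec a).1) hd hpm)⟩

theorem Maps.of_acts {σ : ↥(Subgroup.centralizer ({F.y} : Set G))} {φ : V → V} (hσ : W.B.Acts (F.qq σ) φ) :
    X.Maps (σ : G) none none ∧ ∀ e d : SP, Pm (φ e) d → X.Maps (σ : G) (some e) (some d) := by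
  refine ⟨⟨mem_N_of_acts hσ, (map_pts _ _).trans ?_⟩, fun e d h =>
    Maps.of_co (mem_N_of_acts hσ) ((X.rep_spec (some e)).2.conj hσ) h⟩
  show Subgroup.zpowers ((σ : G) * F.y * (σ : G)⁻¹) = _
  rw [conj_eq_iff_commute.2 (comm_y σ)]
  rfl

/-- The first axis as a point. -/
def pA : SP := ⟨ea, by decide +kernel⟩

/-- The second axis as a point. -/
def pB : SP := ⟨eb, by decide +kernel⟩

/-- A third point. -/
def p0 : SP := ⟨e0, by decide +kernel⟩

variable (X)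

theorem exists_flip : ∃ c, c ∈ Subgroup.normalizer (W.A : Set G) ∧ Commute c z ∧ c * F.y * c⁻¹ = F.y⁻¹ ∧
    ((c * X.ta * c⁻¹ = X.ta⁻¹ ∧ c * X.tb * c⁻¹ = X.tb) ∨ (c * X.ta * c⁻¹ = X.ta ∧ c * X.tb * c⁻¹ = X.tb⁻¹)) := by
  obtain ⟨w, hwy, hwz, j, k, -, -, hw⟩ := X.exists_w
  obtain ⟨c₀, hcz, hcy, hc2, hc3⟩ := F.exists_flip
  obtain ⟨c, hcdef⟩ : ∃ c, c = w⁻¹ * c₀ * w := ⟨_, rfl⟩
  have e1 : ∀ {t r r' : G}, w * t * w⁻¹ = r → c₀ * r * c₀⁻¹ = r' → c * t * c⁻¹ = w⁻¹ * r' * w := fun h h' => by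
    rw [hcdef, ← h', ← h]; group
  have i2 : c₀ * F.y2 ^ (j : ℕ) * c₀⁻¹ = (F.y2 ^ (j : ℕ))⁻¹ := by rw [← conj_pow, hc2, inv_pow]
  have i3 : c₀ * F.y3 ^ (k : ℕ) * c₀⁻¹ = F.y3 ^ (k : ℕ) := by rw [← conj_pow, hc3]
  have hy : c * F.y * c⁻¹ = F.y⁻¹ := by
    rw [e1 (conj_eq_iff_commute.2 hwy) hcy, mul_assoc, ← (hwy.inv_right).eq, inv_mul_cancel_left]
  have hax : (c * X.ta * c⁻¹ = X.ta⁻¹ ∧ c * X.tb * c⁻¹ = X.tb) ∨ (c * X.ta * c⁻¹ = X.ta ∧ c * X.tb * c⁻¹ = X.tb⁻¹) := by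
    rcases hw with ⟨h1, h2⟩ | ⟨h1, h2⟩
    · exact Or.inl ⟨by rw [e1 h1 i2, ← h1]; group, by rw [e1 h2 i3, ← h2]; group⟩
    · exact Or.inr ⟨by rw [e1 h1 i3, ← h1]; group, by rw [e1 h2 i2, ← h2]; group⟩
  have hmem : ∀ {r : G}, r ∈ ({F.y, X.ta, X.tb} : Set G) → r ∈ X.Ax := fun hr => Subgroup.subset_closure hr
  refine ⟨c, X.mem_N_of_axes ?_ ?_ ?_, by rw [hcdef]; exact (hwz.inv_left.mul_left hcz).mul_left hwz, hy, hax⟩
  · rw [hy]; exact inv_mem (hmem (by simp))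
  · rcases hax with ⟨h, -⟩ | ⟨h, -⟩ <;> rw [h]
    · exact inv_mem (hmem (by simp))
    · exact hmem (by simp)
  · rcases hax with ⟨-, h⟩ | ⟨-, h⟩ <;> rw [h]
    · exact hmem (by simp)
    · exact inv_mem (hmem (by simp))

include X in
/-- The flip negates the product of the first two coordinates. -/
theorem flip_coord {c : G} (hcN : c ∈ Subgroup.normalizer (W.A : Set G)) (hcz : Commute c z)
    (hcy : c * F.y * c⁻¹ = F.y⁻¹)
    (hax : (c * X.ta * c⁻¹ = X.ta⁻¹ ∧ c * X.tb * c⁻¹ = X.tb) ∨ (c * X.ta * c⁻¹ = X.ta ∧ c * X.tb * c⁻¹ = X.tb⁻¹))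
    {x : G} {e : V} (hk : F.K3 x) (he : W.Co x e) (he0 : e ≠ 0) :
    ∃ d, W.Co (c * x * c⁻¹) d ∧ cls d = -cls e := by
  obtain ⟨hq, -⟩ := X.normal_form hk he he0
  obtain ⟨i, j, k, l⟩ := e
  obtain ⟨r, hrdef⟩ : ∃ r, r = (X.ta ^ (i : ℕ) * X.tb ^ (j : ℕ))⁻¹ * x := ⟨_, rfl⟩
  have hp := (X.co_a.pow (i : ℕ)).mul (X.co_b.pow (j : ℕ))
  rw [(by decide +kernel : ∀ i j : Fin 3, (i : ℕ) • ea + (j : ℕ) • eb = (i, j, 0, 0)) i j] at hp
  have hr : W.Co r (0, 0, k, l) := by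
    rw [hrdef]
    have := hp.inv.mul he
    rwa [(by decide +kernel : ∀ i j k l : Fin 3, -((i, j, 0, 0) : V) + (i, j, k, l) = (0, 0, k, l)) i j k l] at this
  have hTT : W.B.Acts (F.qq ⟨z, F.z_mem_C⟩) (φT ∘ φT) := by
    rw [← W.hz, ← W.U.T_sq]
    exact W.B.acts_mul W.B.acts_T W.B.acts_T
  have ht : W.Co (z * r * z⁻¹ * r) 0 := by
    have := (hr.conj hTT).mul hr
    rwa [(by decide +kernel : ∀ k l : Fin 3, (φT ∘ φT) (0, 0, k, l) + (0, 0, k, l) = (0 : V)) k l] at this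
  have htc : c * (z * r * z⁻¹ * r) * c⁻¹ ∈ Subgroup.zpowers F.y := by
    obtain ⟨m, hm⟩ := Subgroup.mem_zpowers_iff.1 ht.eq_zero
    rw [← hm, ← conj_zpow, hcy]
    exact Subgroup.zpow_mem _ (inv_mem (Subgroup.mem_zpowers _)) m
  obtain ⟨d', hd'⟩ := exists_co (W := W) ((Subgroup.mem_normalizer_iff.1 hcN _).1 hr.mem)
  have h0 := (hd'.conj hTT).mul hd'
  rw [show z * (c * r * c⁻¹) * z⁻¹ * (c * r * c⁻¹) = c * (z * r * z⁻¹ * r) * c⁻¹ by
    rw [show z * (c * r * c⁻¹) * z⁻¹ = z * c * r * (z * c)⁻¹ by group, ← hcz.eq]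
    group] at h0
  have hd0 := h0.unique (co_zero htc)
  obtain ⟨h1, h2⟩ := inv_split d' (eq_neg_of_add_eq_zero_left hd0)
  obtain ⟨i', j', k', l'⟩ := d'
  obtain rfl : i' = 0 := h1
  obtain rfl : j' = 0 := h2
  have hx : c * x * c⁻¹ = (c * X.ta * c⁻¹) ^ (i : ℕ) * (c * X.tb * c⁻¹) ^ (j : ℕ) * (c * r * c⁻¹) := by
    rw [conj_pow, conj_pow, hrdef]; group
  rw [hx]
  rcases hax with ⟨h1, h2⟩ | ⟨h1, h2⟩ <;> rw [h1, h2]
  · refine ⟨_, ((X.co_a.inv.pow (i : ℕ)).mul (X.co_b.pow (j : ℕ))).mul hd', ?_⟩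
    rw [(by decide +kernel : ∀ i j k' l' : Fin 3, (i : ℕ) • (-ea) + (j : ℕ) • eb + (0, 0, k', l') =
      (-i, j, k', l')) i j k' l']
    exact flip_cls i j k l k' l' hq true
  · refine ⟨_, ((X.co_a.pow (i : ℕ)).mul (X.co_b.inv.pow (j : ℕ))).mul hd', ?_⟩
    rw [(by decide +kernel : ∀ i j k' l' : Fin 3, (i : ℕ) • ea + (j : ℕ) • (-eb) + (0, 0, k', l') =
      (i, -j, k', l')) i j k' l']
    exact flip_cls i j k l k' l' hq false

/-- An element moving the first axis to `y`. -/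
theorem exists_mover : ∃ g, X.Maps g (some pA) none := by
  obtain ⟨w, hwy, -, j, k, hj, hk, hw⟩ := X.exists_w
  obtain ⟨g₀, -, hg2, hgy, hg3⟩ := F.exists_mover
  have hline : ∀ {g : G}, g ∈ Subgroup.normalizer (W.A : Set G) → ∀ {n : ℕ}, g * X.ta * g⁻¹ = F.y ^ n →
      X.Maps g (some pA) none := fun {g} hg {n} h => by
    refine ⟨hg, ?_⟩
    rw [← X.pts_of_co X.k3_a X.co_a (Or.inl rfl : Pm ea (pA : V)), MonoidHom.map_zpowers]
    exact zpowers_y (F.k3_conj g X.k3_a) (by rw [show (MulAut.conj g).toMonoidHom X.ta = g * X.ta * g⁻¹ from rfl, h]; exact Subgroup.pow_mem _ (Subgroup.mem_zpowers _) n)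
  -- the axes of the frame correspond to the axes
  have back : ∀ {t2 t3 : G}, w * t2 * w⁻¹ = F.y2 ^ (j : ℕ) → w * t3 * w⁻¹ = F.y3 ^ (k : ℕ) →
      ({t2, t3} : Set G) ⊆ X.Ax → ∀ r ∈ Subgroup.closure ({F.y, F.y2, F.y3} : Set G), w⁻¹ * r * w ∈ X.Ax := by
    intro t2 t3 h2 h3 hsub r hr
    have hle : Subgroup.closure ({F.y, F.y2, F.y3} : Set G) ≤ X.Ax.comap (MulAut.conj w⁻¹).toMonoidHom := by
      rw [Subgroup.closure_le]
      rintro r (rfl | rfl | rfl) <;>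
        simp only [SetLike.mem_coe, Subgroup.mem_comap, MulEquiv.coe_toMonoidHom, MulAut.conj_apply, inv_inv]
      · rw [mul_assoc, ← hwy.eq, inv_mul_cancel_left]
        exact Subgroup.subset_closure (by simp)
      · rw [← pow_self F.cube2 hj, ← h2, conj_pow]
        simpa [mul_assoc] using pow_mem (hsub (by simp : t2 ∈ ({t2, t3} : Set G))) (j : ℕ)
      · rw [← pow_self F.cube3 hk, ← h3, conj_pow]
        simpa [mul_assoc] using pow_mem (hsub (by simp : t3 ∈ ({t2, t3} : Set G))) (k : ℕ)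
    simpa using hle hr
  obtain ⟨g₁, hg₁def⟩ : ∃ g₁, g₁ = w⁻¹ * g₀ * w := ⟨_, rfl⟩
  have hy2 : g₀ * F.y2 ^ (j : ℕ) * g₀⁻¹ = F.y ^ (j : ℕ) := by rw [← conj_pow, hg2]
  have h1 : ∀ {t2 t3 : G}, w * t2 * w⁻¹ = F.y2 ^ (j : ℕ) → w * t3 * w⁻¹ = F.y3 ^ (k : ℕ) →
      ({t2, t3} : Set G) ⊆ X.Ax → g₁ * t2 * g₁⁻¹ = F.y ^ (j : ℕ) ∧ g₁ * F.y * g₁⁻¹ ∈ X.Ax ∧ g₁ * t3 * g₁⁻¹ ∈ X.Ax := by
    intro t2 t3 h2 h3 hsub
    refine ⟨?_, ?_, ?_⟩
    · rw [hg₁def, show w⁻¹ * g₀ * w * t2 * (w⁻¹ * g₀ * w)⁻¹ = w⁻¹ * (g₀ * (w * t2 * w⁻¹) * g₀⁻¹) * w by group,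
        h2, hy2, mul_assoc, ← (hwy.pow_right _).eq, inv_mul_cancel_left]
    · rw [hg₁def, show w⁻¹ * g₀ * w * F.y * (w⁻¹ * g₀ * w)⁻¹ = w⁻¹ * (g₀ * (w * F.y * w⁻¹) * g₀⁻¹) * w by group,
        conj_eq_iff_commute.2 hwy]
      exact back h2 h3 hsub _ hgy
    · rw [hg₁def, show w⁻¹ * g₀ * w * t3 * (w⁻¹ * g₀ * w)⁻¹ = w⁻¹ * (g₀ * (w * t3 * w⁻¹) * g₀⁻¹) * w by group,
        h3, ← conj_pow]
      exact back h2 h3 hsub _ (pow_mem hg3 _)
  have hypow : F.y ^ (j : ℕ) ∈ X.Ax := pow_mem (Subgroup.subset_closure (by simp)) _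
  have hA : X.ta ∈ X.Ax ∧ X.tb ∈ X.Ax := ⟨Subgroup.subset_closure (by simp), Subgroup.subset_closure (by simp)⟩
  rcases hw with ⟨h2, h3⟩ | ⟨h3, h2⟩
  · obtain ⟨q1, q2, q3⟩ := h1 h2 h3 (by rintro r (rfl | rfl); exacts [hA.1, hA.2])
    exact ⟨g₁, hline (X.mem_N_of_axes q2 (by rw [q1]; exact hypow) q3) q1⟩
  · obtain ⟨q1, q2, q3⟩ := h1 h2 h3 (by rintro r (rfl | rfl); exacts [hA.2, hA.1])
    have hσN : (X.σ : G) ∈ Subgroup.normalizer (W.A : Set G) :=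
      mem_N_of_acts (φ := φs) (by rw [X.hσ]; exact W.B.acts_s)
    refine ⟨g₁ * X.σ, hline (mul_mem (X.mem_N_of_axes q2 q3 (by rw [q1]; exact hypow)) hσN) (n := (j : ℕ)) ?_⟩
    rw [← q1, ← X.swap]
    group

/-- Every line can be moved to `y`. -/
theorem trans_one (a : Option SP) : ∃ n, X.Maps n a none := by
  match a with
  | none =>
    obtain ⟨σ, hσ⟩ := exists_word (W := W) []
    exact ⟨σ, (Maps.of_acts hσ).1⟩
  | some e =>
    obtain ⟨w, -, hw⟩ := to_ea e (X.crd_ne e) e.2.1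
    obtain ⟨σ, hσ⟩ := exists_word (W := W) w
    obtain ⟨g, hg⟩ := X.exists_mover
    exact ⟨_, ((Maps.of_acts hσ).2 e pA hw).comp hg⟩

theorem trans_two (a : Option SP) (ha : a ≠ none) : ∃ n, X.Maps n none none ∧ X.Maps n a (some pA) := by
  obtain ⟨e, rfl⟩ := Option.ne_none_iff_exists'.1 ha
  obtain ⟨w, -, hw⟩ := to_ea e (X.crd_ne e) e.2.1
  obtain ⟨σ, hσ⟩ := exists_word (W := W) w
  exact ⟨_, (Maps.of_acts hσ).1, (Maps.of_acts hσ).2 e pA hw⟩

theorem not_pm {e d : SP} (h : e ≠ d) : ¬ Pm (e : V) d := fun hp =>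
  h (Subtype.ext (norm_facts.2.1 _ _ e.2.2 d.2.2 hp))

theorem trans_three (a : Option SP) (h0 : a ≠ none) (hA : a ≠ some pA) :
    ∃ n, X.Maps n none none ∧ X.Maps n (some pA) (some pA) ∧ X.Maps n a (some pB) := by
  obtain ⟨e, rfl⟩ := Option.ne_none_iff_exists'.1 h0
  obtain ⟨w, -, hwa, hw⟩ := to_eb e (X.crd_ne e) e.2.1 (not_pm fun h => hA (by rw [h]) : ¬ Pm (e : V) (pA : V))
  obtain ⟨σ, hσ⟩ := exists_word (W := W) w
  exact ⟨_, (Maps.of_acts hσ).1, (Maps.of_acts hσ).2 pA pA hwa, (Maps.of_acts hσ).2 e pB hw⟩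

theorem trans_four (a : Option SP) (h0 : a ≠ none) (hA : a ≠ some pA) (hB : a ≠ some pB) :
    ∃ n, X.Maps n none none ∧ X.Maps n (some pA) (some pA) ∧ X.Maps n (some pB) (some pB) ∧
      X.Maps n a (some p0) := by
  have one : ∀ a : Option SP, a ≠ none → a ≠ some pA → a ≠ some pB → cls (crd a) = 1 →
      ∃ n, X.Maps n none none ∧ X.Maps n (some pA) (some pA) ∧ X.Maps n (some pB) (some pB) ∧
        X.Maps n a (some p0) := by
    intro a h0 _ _ hc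
    obtain ⟨e, rfl⟩ := Option.ne_none_iff_exists'.1 h0
    obtain ⟨m, hm⟩ := to_e0 e (X.crd_ne e) e.2.1 hc
    have hσ : W.B.Acts (F.qq (lift W.U.T ^ (m : ℕ))) (φT^[(m : ℕ)]) := by
      rw [map_pow, qq_lift]; exact W.B.acts_pow W.B.acts_T m
    exact ⟨_, (Maps.of_acts hσ).1, (Maps.of_acts hσ).2 pA pA (T_facts.1 m).1,
      (Maps.of_acts hσ).2 pB pB (T_facts.1 m).2, (Maps.of_acts hσ).2 e p0 hm⟩
  obtain ⟨e, rfl⟩ := Option.ne_none_iff_exists'.1 h0
  have hne := cls_ne e (X.crd_ne e) e.2.1 (not_pm fun h => hA (by rw [h]) : ¬ Pm (e : V) (pA : V))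
    (not_pm fun h => hB (by rw [h]) : ¬ Pm (e : V) (pB : V))
  rcases fin3_cases (cls (e : V)) with hc | hc | hc
  · exact absurd hc hne
  · exact one _ h0 hA hB hc
  obtain ⟨c, hcN, hcz, hcy, hax⟩ := X.exists_flip
  obtain ⟨d, hd, hdc⟩ := X.flip_coord hcN hcz hcy hax (X.rep_spec (some e)).1 (X.rep_spec (some e)).2 (X.crd_ne e)
  have m0 : X.Maps c none none := ⟨hcN, (map_pts c none).trans (by
    show Subgroup.zpowers (c * F.y * c⁻¹) = Subgroup.zpowers F.y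
    rw [hcy, Subgroup.zpowers_inv])⟩
  have pm : ∀ {t : G} {p : SP}, F.K3 t → W.Co t p → (c * t * c⁻¹ = t⁻¹ ∨ c * t * c⁻¹ = t) →
      X.Maps c (some p) (some p) := fun {t p} hk hp hor => by
    refine ⟨hcN, ?_⟩
    rw [← X.pts_of_co hk hp (Or.inl rfl), MonoidHom.map_zpowers]
    show Subgroup.zpowers (c * t * c⁻¹) = _
    rcases hor with h | h <;> rw [h]
    exact Subgroup.zpowers_inv
  have mA := pm (p := pA) X.k3_a X.co_a (hax.imp (fun h => h.1) fun h => h.1)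
  have mB := pm (p := pB) X.k3_b X.co_b (hax.symm.imp (fun h => h.2) fun h => h.2)
  obtain ⟨b, hb⟩ := maps_exists (X := X) hcN (some e)
  have hb0 : b ≠ none := fun h => Option.some_ne_none _ (Maps.inj (h ▸ hb) m0)
  have hbA : b ≠ some pA := fun h => hA (Maps.inj (h ▸ hb) mA)
  have hbB : b ≠ some pB := fun h => hB (Maps.inj (h ▸ hb) mB)
  have hcb : cls (crd b) = 1 := by
    obtain ⟨p, rfl⟩ := Option.ne_none_iff_exists'.1 hb0
    have hmem : c * X.rep (some e) * c⁻¹ ∈ X.pts (some p) := by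
      rw [← hb.2, map_pts]; exact Subgroup.mem_zpowers _
    have hcls : cls d = cls (p : V) := by
      rcases pow_cases (X.rep_cube (some p)) hmem with h | h | h
      · exact absurd h (k3_ne (F.k3_conj c (X.rep_spec (some e)).1))
      · exact pm_facts.2.1 _ _ (Or.inl ((h ▸ hd).unique (X.rep_spec (some p)).2))
      · exact pm_facts.2.1 _ _ (Or.inr ((h ▸ hd).unique (X.rep_spec (some p)).2.inv))
    show cls (p : V) = 1
    rw [← hcls, hdc, show cls (crd (some e)) = cls (e : V) from rfl, hc]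
    rfl
  obtain ⟨n, n0, nA, nB, ne⟩ := one b hb0 hbA hbB hcb
  exact ⟨n * c, m0.comp n0, mA.comp nA, mB.comp nB, hb.comp ne⟩

/-- The base. -/
def base : Fin 4 → Option SP := ![none, some pA, some pB, some p0]

/-- Any four lines can be moved to the base. -/
theorem trans_base (x : Fin 4 → Option SP) (hx : Function.Injective x) :
    ∃ n, ∀ i, X.Maps n (x i) (base i) := by
  have hne : ∀ {n : G} {i j : Fin 4} {a b : Option SP}, i ≠ j → X.Maps n (x i) a → X.Maps n (x j) b → a ≠ b :=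
    fun hij h1 h2 e => hij (hx (Maps.inj (e ▸ h1) h2))
  obtain ⟨n₁, m₁⟩ := X.trans_one (x 0)
  obtain ⟨b1, h1⟩ := maps_exists (X := X) m₁.1 (x 1)
  obtain ⟨b2, h2⟩ := maps_exists (X := X) m₁.1 (x 2)
  obtain ⟨b3, h3⟩ := maps_exists (X := X) m₁.1 (x 3)
  obtain ⟨n₂, p0', p1⟩ := X.trans_two b1 (hne (by decide) h1 m₁)
  obtain ⟨c2, q2⟩ := maps_exists (X := X) p0'.1 b2
  obtain ⟨c3, q3⟩ := maps_exists (X := X) p0'.1 b3
  have g0 := m₁.comp p0'
  have g1 := h1.comp p1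
  have g2 := h2.comp q2
  have g3 := h3.comp q3
  obtain ⟨n₃, r0, r1, r2⟩ := X.trans_three c2 (hne (by decide) g2 g0) (hne (by decide) g2 g1)
  obtain ⟨d3, s3⟩ := maps_exists (X := X) r0.1 c3
  have k0 := g0.comp r0
  have k1 := g1.comp r1
  have k2 := g2.comp r2
  have k3 := g3.comp s3
  obtain ⟨n₄, t0, t1, t2, t3⟩ := X.trans_four d3 (hne (by decide) k3 k0) (hne (by decide) k3 k1) (hne (by decide) k3 k2)
  refine ⟨n₄ * (n₃ * (n₂ * n₁)), fun i => ?_⟩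
  fin_cases i
  exacts [k0.comp t0, k1.comp t1, k2.comp t2, k3.comp t3]

end Frame.Setting.Axes

end CfsgLib.SuzThree
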