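import Cfsg.Agent.Lib.SuzEleven.Moves
import Cfsg.Agent.Lib.SuzEleven.FixPair
import Cfsg.Agent.Lib.SuzEleven.Final
import Cfsg.Agent.Lib.SuzThree.Main

/-!
The eleven lines of a frame.
-/

set_option autoImplicit false
set_option linter.style.haveILetI false
set_option maxRecDepth 10000
set_option synthInstance.maxSize 20000
set_option synthInstance.maxHeartbeats 400000
set_option maxHeartbeats 400000

namespace CfsgLib.SuzThree

open CfsgLib.SuzType CfsgLib.Classical.Quad
open CfsgLib.U43Type.Frame.EBase (φu φs φT)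
open CfsgLib.SuzEleven

universe u

variable {G : Type u} [Group G]

namespace Frame

variable {S : Sys G} {z : G} {F : Frame S z}

namespace Setting.Axes

variable {W : F.Setting} (X : W.Axes) [Finite G]

theorem y_cases {n : G} (h : X.Maps n none none) : n * F.y * n⁻¹ = F.y ∨ n * F.y * n⁻¹ = F.y⁻¹ := by
  have hmem : n * F.y * n⁻¹ ∈ X.pts none := by
    rw [← h.2, map_pts]; exact Subgroup.mem_zpowers _
  rcases pow_cases F.cube hmem with e | e | e
  · exact absurd e (k3_ne (F.k3_conj n F.k3_self))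
  · exact Or.inl e
  · exact Or.inr e

/-- An element centralizing `y` fixing the two axes acts as a power of the rotation. -/
theorem fix_pair {σ : ↥(Subgroup.centralizer ({F.y} : Set G))}
    (hA : X.Maps (σ : G) (some pA) (some pA)) (hB : X.Maps (σ : G) (some pB) (some pB)) :
    ∃ m : Fin 4, W.B.Acts (F.qq σ) (φT^[(m : ℕ)]) ∧ (m = 0 → (σ : G) ∈ W.A) := by
  have key : ∀ {t : G} {p : SP} {g}, F.K3 t → W.Co t p →
      (∃ hx : t ∈ Subgroup.centralizer ({F.y} : Set G), F.qq ⟨t, hx⟩ = g) → X.Maps (σ : G) (some p) (some p) →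
      F.qq σ * g * (F.qq σ)⁻¹ = g ∨ F.qq σ * g * (F.qq σ)⁻¹ = g⁻¹ := by
    intro t p g hk hp ⟨hx, hg⟩ hm
    have hl := X.pts_of_co hk hp (Or.inl rfl)
    have hmem : (σ : G) * t * (σ : G)⁻¹ ∈ Subgroup.zpowers t := by
      rw [hl, ← hm.2, ← hl, MonoidHom.map_zpowers]
      exact Subgroup.mem_zpowers _
    rw [← hg, ← map_inv F.qq σ, ← map_mul, ← map_mul, ← map_inv F.qq]
    rcases pow_cases (W.A_cube hp.mem) hmem with e | e | e
    · exact absurd e (k3_ne (F.k3_conj _ hk))
    · exact Or.inl (congrArg F.qq (Subtype.ext e))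
    · exact Or.inr (congrArg F.qq (Subtype.ext e))
  obtain ⟨m, hm, hm0⟩ := CfsgLib.SuzEleven.fix_pair W.B (key (p := pA) X.k3_a X.co_a X.Ca hA)
    (key (p := pB) X.k3_b X.co_b X.Cb hB)
  exact ⟨m, hm, fun h => W.coe_mem_A.2 (hm0 h)⟩

/-- Only the group fixes the base. -/
theorem sharp {n : G} (h : ∀ i, X.Maps n (base i) (base i)) : n ∈ W.A := by
  have h0 : X.Maps n none none := h 0
  have hA : X.Maps n (some pA) (some pA) := h 1
  have hB : X.Maps n (some pB) (some pB) := h 2
  have h3 : X.Maps n (some p0) (some p0) := h 3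
  rcases X.y_cases h0 with e | e
  · have hn : n ∈ Subgroup.centralizer ({F.y} : Set G) :=
      Subgroup.mem_centralizer_singleton_iff.2 (conj_eq_iff_commute.1 e).eq
    obtain ⟨m, hm, hm0⟩ := X.fix_pair (σ := ⟨n, hn⟩) hA hB
    refine hm0 (T_facts.2.2 m ?_)
    have hd : W.Co (n * X.rep (some p0) * n⁻¹) (φT^[(m : ℕ)] (p0 : V)) :=
      (X.rep_spec (some p0)).2.conj (σ := ⟨n, hn⟩) hm
    have hmem : n * X.rep (some p0) * n⁻¹ ∈ X.pts (some p0) := by
      rw [← h3.2, map_pts]; exact Subgroup.mem_zpowers _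
    rcases pow_cases (X.rep_cube (some p0)) hmem with e | e | e
    · exact absurd e (k3_ne (F.k3_conj n (X.rep_spec (some p0)).1))
    · exact Or.inl ((e ▸ hd).unique (X.rep_spec (some p0)).2)
    · exact Or.inr ((e ▸ hd).unique (X.rep_spec (some p0)).2.inv)
  · exfalso
    obtain ⟨c, hcN, hcz, hcy, hax⟩ := X.exists_flip
    have hn : c * n ∈ Subgroup.centralizer ({F.y} : Set G) := by
      refine Subgroup.mem_centralizer_singleton_iff.2 (conj_eq_iff_commute.1 ?_).eq
      rw [show c * n * F.y * (c * n)⁻¹ = c * (n * F.y * n⁻¹) * c⁻¹ by group, e,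
        show c * F.y⁻¹ * c⁻¹ = (c * F.y * c⁻¹)⁻¹ by group, hcy, inv_inv]
    have pm : ∀ {t : G} {p : SP}, F.K3 t → W.Co t p → (c * t * c⁻¹ = t⁻¹ ∨ c * t * c⁻¹ = t) →
        X.Maps c (some p) (some p) := fun {t p} hk hp hor => by
      refine ⟨hcN, ?_⟩
      rw [← X.pts_of_co hk hp (Or.inl rfl), MonoidHom.map_zpowers]
      show Subgroup.zpowers (c * t * c⁻¹) = _
      rcases hor with h | h <;> rw [h]
      exact Subgroup.zpowers_inv
    obtain ⟨m, hm, -⟩ := X.fix_pair (σ := ⟨c * n, hn⟩)
      (hA.comp (pm (p := pA) X.k3_a X.co_a (hax.imp (fun h => h.1) fun h => h.1)))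
      (hB.comp (pm (p := pB) X.k3_b X.co_b (hax.symm.imp (fun h => h.2) fun h => h.2)))
    have hd : W.Co (c * n * X.rep (some p0) * (c * n)⁻¹) (φT^[(m : ℕ)] (p0 : V)) :=
      (X.rep_spec (some p0)).2.conj (σ := ⟨c * n, hn⟩) hm
    have hmem : n * X.rep (some p0) * n⁻¹ ∈ X.pts (some p0) := by
      rw [← h3.2, map_pts]; exact Subgroup.mem_zpowers _
    rw [show c * n * X.rep (some p0) * (c * n)⁻¹ = c * (n * X.rep (some p0) * n⁻¹) * c⁻¹ by group] at hd
    obtain ⟨k1, c1⟩ := X.rep_spec (some p0)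
    have hcls : ∀ {t : G} {e : V}, F.K3 t → W.Co t e → Pm e (p0 : V) → W.Co (c * t * c⁻¹) (φT^[(m : ℕ)] (p0 : V)) →
        False := by
      intro t e' hk he hpm hco
      have he0 : e' ≠ 0 := fun h => by
        rw [h] at hpm; exact absurd hpm (by decide +kernel)
      obtain ⟨d, hd', hdc⟩ := X.flip_coord hcN hcz hcy hax hk he he0
      rw [← hco.unique hd', T_facts.2.1, pm_facts.2.1 _ _ hpm] at hdc
      exact absurd hdc (by decide +kernel)
    rcases pow_cases (X.rep_cube (some p0)) hmem with e | e | e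
    · exact absurd e (k3_ne (F.k3_conj n k1))
    · rw [e] at hd; exact hcls k1 c1 (Or.inl rfl) hd
    · rw [e] at hd; exact hcls (F.k3_inv k1) c1.inv (Or.inr rfl) hd

theorem base_inj : Function.Injective (base : Fin 4 → Option SP) := by decide +kernel

/-- The lines of a frame as eleven lines. -/
noncomputable def eleven : Eleven (Subgroup.zpowers F.y) W.A (Option SP) where
  pts := X.pts
  pts_inj := X.pts_inj
  pts_le := X.pts_le
  card_pts := by rw [Nat.card_eq_fintype_card, Fintype.card_option, card_SP]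
  base := base
  base_inj := base_inj
  base_zero := rfl
  conj_pt g hg := by
    rw [MonoidHom.map_zpowers] at hg ⊢
    obtain ⟨a, ha⟩ := X.exists_pt (F.k3_conj g F.k3_self) (hg (Subgroup.mem_zpowers _))
    exact ⟨a, ha.symm⟩
  act n hn a := (maps_exists (X := X) hn a).imp fun _ h => h.2
  trans x hx := by
    obtain ⟨n, hn⟩ := X.trans_base x hx
    exact ⟨n, (hn 0).1, fun i => (hn i).2⟩
  sharp n hn h := X.sharp fun i => ⟨hn, h i⟩

end Setting.Axes

theorem card_normalizer [Finite G] (F : Frame S z) :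
    Nat.card (Subgroup.normalizer ((Subgroup.zpowers F.y : Subgroup G) : Set G)) =
      2 * 3 * (2 ^ 7 * 3 ^ 6 * 5 * 7) := by
  obtain ⟨P⟩ := F.exists_factors
  obtain ⟨D, -, -⟩ := P.hyp F.qq F.qq_surj F.qq_ker
  have hC : Subgroup.centralizer ((Subgroup.zpowers F.y : Subgroup G) : Set G) =
      Subgroup.centralizer ({F.y} : Set G) := by
    ext x
    rw [Subgroup.mem_centralizer_singleton_iff, Subgroup.mem_centralizer_iff]
    constructor
    · exact fun h => (h F.y (Subgroup.mem_zpowers _)).symm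
    · intro h t ht
      obtain ⟨n, rfl⟩ := Subgroup.mem_zpowers_iff.1 ht
      exact ((Commute.symm h).zpow_left n).eq
  have hle : Subgroup.centralizer ((Subgroup.zpowers F.y : Subgroup G) : Set G) ≤
      Subgroup.normalizer ((Subgroup.zpowers F.y : Subgroup G) : Set G) := fun x hx => by
    rw [hC, Subgroup.mem_centralizer_singleton_iff] at hx
    refine mem_normalizer_of_maps fun t ht => ?_
    obtain ⟨n, rfl⟩ := Subgroup.mem_zpowers_iff.1 ht
    rw [← conj_zpow, conj_eq_iff_commute.2 hx]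
    exact Subgroup.zpow_mem _ (Subgroup.mem_zpowers _) n
  have h1 := Subgroup.card_mul_index ((Subgroup.centralizer ((Subgroup.zpowers F.y : Subgroup G) : Set G)).subgroupOf
    (Subgroup.normalizer ((Subgroup.zpowers F.y : Subgroup G) : Set G)))
  rw [Nat.card_congr (Subgroup.subgroupOfEquivOfLe hle).toEquiv, ← Subgroup.relIndex, F.relIndex_two, hC] at h1
  rw [← h1]
  have h2 := Subgroup.card_eq_card_quotient_mul_card_subgroup F.N0
  have h3 : Nat.card F.N0 = 3 := by
    rw [N0, Nat.card_congr (Subgroup.subgroupOfEquivOfLe (Subgroup.zpowers_le.2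
      (Subgroup.mem_centralizer_singleton_iff.2 rfl))).toEquiv, F.card_zpowers]
  rw [h2, h3, (CfsgLib.U43Type.order_and_class D).1]
  ring

/-- The normalizer of the elementary abelian group and the Sylow subgroups of `N(⟨y⟩)`. -/
theorem eleven_conclusion [Finite G] (F : Frame S z) (X : Subgroup G) (hX : X = Subgroup.zpowers F.y)
    (P : Sylow 3 (Subgroup.normalizer (X : Set G))) :
    ¬ 3 ∣ ((P : Subgroup (Subgroup.normalizer (X : Set G))).map
        (Subgroup.subtype (Subgroup.normalizer (X : Set G)))).index ∧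
    ∃ A : Subgroup G, A ≤ (P : Subgroup (Subgroup.normalizer (X : Set G))).map
        (Subgroup.subtype (Subgroup.normalizer (X : Set G))) ∧
      Cfsg.IsElementaryAbelian 3 A ∧ Nat.card A = 3 ^ 5 ∧ Subgroup.centralizer (A : Set G) = A ∧
      ∃ _ : (A.subgroupOf (Subgroup.normalizer (A : Set G))).Normal,
        Cfsg.Spor.IsoM11 (↥(Subgroup.normalizer (A : Set G)) ⧸ A.subgroupOf (Subgroup.normalizer (A : Set G))) := by
  subst hX
  obtain ⟨W⟩ := F.exists_setting
  obtain ⟨X⟩ := W.exists_axes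
  exact finish X.eleven F.card_zpowers W.A_elementary W.card_A W.centralizer_A F.card_normalizer P

end Frame

end CfsgLib.SuzThree
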